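import Cfsg.Agent.GenA.TwoLength.Key
import Cfsg.Agent.Lib.PLocal.PSolvable
import Cfsg.Agent.Lib.PLocal.SolvableSeparable
import Cfsg.Agent.Lib.PLocal.Cores
import Cfsg.Agent.Lib.Cores.Fitting
import Cfsg.Agent.Lib.CN.Basic
import Cfsg.Agent.Lib.Cores.Subnormal

/-!
A faithful module in characteristic two on which no element of a Sylow `2`-subgroup of exponent `2 ^ f` has
a full block: the half powers lie in the `2`-core modulo the core of odd order.
-/

set_option autoImplicit false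

namespace Cfsg.Agent.GenA.TwoLength

open Cfsg Subgroup
open Module (End)
open scoped commutatorElement

universe u

/-- A `2`-element centralizing the odd parts of the Fitting subgroup. -/
theorem eq_one_of_centralizes_odd {H : Type u} [Group H] [Finite H] [Group.IsSolvable H]
    (hO : pCore 2 H = ⊥) {d : H} (hd2 : ∃ j : ℕ, d ^ 2 ^ j = 1)
    (hd : ∀ q : ℕ, q.Prime → q ≠ 2 → d ∈ centralizer (pCore q H : Set H)) : d = 1 := by
  set F := fittingSubgroup H with hF
  have hpart : ∀ (r : ℕ) [Fact r.Prime] (w : H), w ∈ F → IsPGroup r (zpowers w) → w ∈ pCore r H := by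
    intro r _ w hw hwr
    have h1 : IsPGroup r ((zpowers w).subgroupOf F) := hwr.comap_subtype
    obtain ⟨Sw, hSw⟩ := h1.exists_le_sylow
    rw [← Cores.sylow_fitting_map Sw]
    exact ⟨⟨w, hw⟩, hSw (show (⟨w, hw⟩ : F) ∈ (zpowers w).subgroupOf F from mem_zpowers w), rfl⟩
  have h1 : d ∈ centralizer (F : Set H) := by
    refine zpowers_le.mp (le_centralizer_iff.mp ?_)
    refine CN.le_of_forall_isPGroup fun r hr w hw hwr => mem_centralizer_iff.mpr fun z hz => ?_
    haveI := Fact.mk hr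
    obtain ⟨j, rfl⟩ := mem_zpowers_iff.mp hz
    have hwp := hpart r w hw hwr
    by_cases h2 : r = 2
    · subst h2
      rw [hO, mem_bot] at hwp
      rw [hwp, mul_one, one_mul]
    exact ((show Commute w d from mem_centralizer_iff.mp (hd r hr h2) w hwp).zpow_right j).symm.eq
  have h2 : IsPGroup 2 (zpowers d) := by
    obtain ⟨j, hj⟩ := hd2
    rw [IsPGroup.iff_card]
    obtain ⟨i, -, hi⟩ := (Nat.dvd_prime_pow Nat.prime_two).mp (orderOf_dvd_of_pow_eq_one hj)
    exact ⟨i, by rw [Nat.card_zpowers, hi]⟩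
  have h3 := hpart 2 d (Cores.centralizer_fittingSubgroup_le h1) h2
  rwa [hO, mem_bot] at h3

variable {H : Type u} [Group H] [Finite H] [Group.IsSolvable H] {K : Type*} [Field K] [CharP K 2] [IsAlgClosed K]
  {V : Type*} [AddCommGroup V] [Module K V] [FiniteDimensional K V]

set_option maxHeartbeats 1000000 in
/-- The half powers lie in the `2`-core modulo the core of odd order. -/
theorem half_mem (hO : pCore 2 H = ⊥) (τ : H →* End K V) (hτ : Function.Injective τ) (P : Sylow 2 H)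
    {f : ℕ} (hf : 2 ≤ f) (hexp : ∀ g ∈ (P : Subgroup H), g ^ 2 ^ f = 1)
    (hsum : ∀ g ∈ (P : Subgroup H), ∀ v : V, ∑ i ∈ Finset.range (2 ^ f), (τ g ^ i) v = 0) :
    ∀ x ∈ (P : Subgroup H),
      QuotientGroup.mk' (pPrimeCore 2 H) (x ^ 2 ^ (f - 1)) ∈ pCore 2 (H ⧸ pPrimeCore 2 H) := by
  classical
  intro x hx
  haveI h2f : Fact (Nat.Prime 2) := ⟨Nat.prime_two⟩
  set y := x ^ 2 ^ (f - 1) with hy
  have hqK : ∀ q : ℕ, q.Prime → q ≠ 2 → (q : K) ≠ 0 := fun q hq h2 h =>
    h2 ((Nat.prime_dvd_prime_iff_eq Nat.prime_two hq).mp ((CharP.cast_eq_zero_iff K 2 q).mp h)).symm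
  -- the centralizer of the abelian normal subgroups of odd prime power order
  set Ab : Set H := {a | ∃ (A : Subgroup H) (q : ℕ), A.Normal ∧ q.Prime ∧ q ≠ 2 ∧ IsPGroup q A ∧
    (∀ b ∈ A, ∀ c ∈ A, Commute b c) ∧ a ∈ A} with hAb
  set N1 := centralizer Ab with hN1
  haveI : N1.Normal := ⟨fun n hn g => mem_centralizer_iff.mpr fun a ⟨A, q, hA, h1, h2, h3, h4, ha⟩ => by
    have h := mem_centralizer_iff.mp hn (g⁻¹ * a * g) ⟨A, q, hA, h1, h2, h3, h4, by
      simpa using hA.conj_mem a ha g⁻¹⟩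
    calc a * (g * n * g⁻¹) = g * (g⁻¹ * a * g * n) * g⁻¹ := by group
      _ = _ := by rw [h]; group⟩
  have hyN : y ∈ N1 := mem_centralizer_iff.mpr fun a ⟨A, q, hA, hq, h2, hAq, hAc, ha⟩ => by
    have := hτ (abelian_fix τ A x (show 1 ≤ f by omega) (hqK q hq h2) hAq (fun b hb => hA.conj_mem b hb x)
      (fun b hb c hc => (hAc b hb c hc).map τ) (hexp x hx) (hsum x hx) ha)
    exact (mul_inv_eq_iff_eq_mul.mp this).symm
  -- modulo the core of odd order
  set K0 := pPrimeCore 2 H with hK0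
  haveI : K0.Normal := Cores.pPrimeCore_normal 2
  set π := QuotientGroup.mk' K0 with hπ
  have hπs := QuotientGroup.mk'_surjective K0
  have hinjP : ∀ a ∈ (P : Subgroup H), π a = 1 → a = 1 := fun a ha h => by
    have h1 : a ∈ (P : Subgroup H) ⊓ K0 := ⟨ha, (QuotientGroup.eq_one_iff a).mp h⟩
    rwa [PLocal.Cores.inf_eq_bot_of_isPGroup_of_coprime P.isPGroup' PLocal.Cores.coprime_card_pPrimeCore,
      mem_bot] at h1
  set Nb := N1.map π with hNb
  haveI hNbn : Nb.Normal := (inferInstance : N1.Normal).map π hπs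
  haveI : (pCore 2 Nb).Characteristic := Cores.pCore_characteristic 2
  set B1 := (pCore 2 Nb).map Nb.subtype with hB1
  haveI hB1n : B1.Normal := by rw [hB1]; infer_instance
  have hB1N : B1 ≤ Nb := map_subtype_le _
  have hB12 : IsPGroup 2 B1 := (Cores.pCore_isPGroup 2).map _
  have hB1C : ∀ g ∈ Nb, g ∈ centralizer (B1 : Set (H ⧸ K0)) → g ∈ B1 := by
    intro g hg hgc
    have hO' : pPrimeCore 2 Nb = ⊥ := by
      rw [← (pPrimeCore 2 Nb).map_eq_bot_iff_of_injective Nb.subtype_injective, ← le_bot_iff]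
      exact (PLocal.Cores.map_subtype_pPrimeCore_le Nb).trans (Cores.pPrimeCore_quotient_self 2).le
    refine ⟨⟨g, hg⟩, PLocal.PSolvable.centralizer_pCore_le hO' ?_ (mem_centralizer_iff.mpr fun b hb => ?_), rfl⟩
    · exact PLocal.SolvableSeparable.isPSolvable_of_isSolvable 2 _
    · exact Subtype.ext (mem_centralizer_iff.mp hgc b (mem_map_of_mem _ hb))
  obtain ⟨C0, hC0c, hC0Φ, hC0com, hC0C⟩ := Techniques.Critical.exists_critical hB12
  haveI := hC0c
  set Cb := C0.map B1.subtype with hCb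
  haveI hCbn : Cb.Normal := by rw [hCb]; infer_instance
  have hCbB : Cb ≤ B1 := map_subtype_le _
  have hCb2 : IsPGroup 2 Cb := hB12.to_le hCbB
  set Zb := Cb ⊓ centralizer (Cb : Set (H ⧸ K0)) with hZb
  haveI : Zb.Normal := inferInstance
  have hcomC : ∀ a ∈ Cb, ∀ b ∈ Cb, ⁅a, b⁆ ∈ Zb := by
    rintro _ ⟨a, ha, rfl⟩ _ ⟨b, -, rfl⟩
    have h1 := hC0com (commutator_mem_commutator ha (mem_top b))
    rw [← map_commutatorElement]
    refine ⟨⟨_, h1.1, rfl⟩, mem_centralizer_iff.mpr ?_⟩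
    rintro _ ⟨c, hc, rfl⟩
    exact congrArg Subtype.val (mem_centralizer_iff.mp h1.2 c hc)
  have hsqC : ∀ a ∈ Cb, a * a ∈ Zb := by
    rintro _ ⟨a, ha, rfl⟩
    refine ⟨mul_mem (mem_map_of_mem _ ha) (mem_map_of_mem _ ha), mem_centralizer_iff.mpr ?_⟩
    have h1 : a ^ 2 ∈ centralizer (C0 : Set B1) := hC0Φ ⟨_,
      Solvable.Basics.pow_mem_frattini (hB12.to_subgroup C0) (⟨a, ha⟩ : C0), by simp⟩
    rintro _ ⟨c, hc, rfl⟩
    rw [← map_mul]
    exact congrArg Subtype.val (by simpa [sq] using mem_centralizer_iff.mp h1 c hc)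
  -- its preimage in the Sylow subgroup
  set R := N1 ⊓ Cb.comap π with hR
  haveI : R.Normal := inferInstance
  set C := (P : Subgroup H) ⊓ R with hC
  have hπC : ∀ c ∈ C, π c ∈ Cb := fun c hc => hc.2.2
  have hCsurj : ∀ z ∈ Cb, ∃ c ∈ C, π c = z := by
    set φ : R →* Cb := (π.comp R.subtype).codRestrict Cb fun r => r.2.2 with hφ
    have hφs : Function.Surjective φ := by
      rintro ⟨z, hz⟩
      obtain ⟨m, hm, rfl⟩ := hB1N (hCbB hz)
      exact ⟨⟨m, hm, hz⟩, rfl⟩
    obtain ⟨k, hk⟩ := hCb2.exists_card_eq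
    set PR := (P : Subgroup H).subgroupOf R with hPR
    have hodd : ¬ 2 ∣ PR.index :=
      Cores.sylow_subgroupOf_isSubnormal P (show R.Normal from inferInstance).isSubnormal
    have htop : PR.map φ = ⊤ := by
      refine index_eq_one.mp (Nat.eq_one_of_dvd_coprimes (a := 2 ^ k) (b := PR.index) ?_ ?_ (index_map_dvd _ hφs))
      · exact ((Nat.prime_two.coprime_iff_not_dvd).mpr hodd).pow_left k
      · exact hk ▸ index_dvd_card _
    intro z hz
    obtain ⟨c, hc, e⟩ := htop.ge (mem_top (⟨z, hz⟩ : Cb))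
    exact ⟨c, ⟨mem_subgroupOf.mp hc, c.2⟩, congrArg Subtype.val e⟩
  have hC2 : IsPGroup 2 C := P.isPGroup'.to_le inf_le_left
  have hxC : PLocal.TheoremB.Normalizes x C := fun a ha =>
    ⟨(P : Subgroup H).mul_mem ((P : Subgroup H).mul_mem hx ha.1) ((P : Subgroup H).inv_mem hx), (show R.Normal from inferInstance).conj_mem a ha.2 x⟩
  have hinjC : ∀ a ∈ C, ∀ b ∈ C, Commute (π a) (π b) → Commute a b := fun a ha b hb h => by
    refine commutatorElement_eq_one_iff_commute.mp (hinjP _ ?_ ?_)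
    · exact mul_mem (mul_mem (mul_mem ha.1 hb.1) (inv_mem ha.1)) (inv_mem hb.1)
    · rw [map_commutatorElement, commutatorElement_eq_one_iff_commute]; exact h
  have hcen : ∀ a ∈ C, ∀ b ∈ C, ∀ c ∈ C, Commute ⁅a, b⁆ c := fun a ha b hb c hc =>
    hinjC ⁅a, b⁆ (mul_mem (mul_mem (mul_mem ha hb) (inv_mem ha)) (inv_mem hb)) c hc (by
      rw [map_commutatorElement]
      exact (mem_centralizer_iff.mp (hcomC _ (hπC a ha) _ (hπC b hb)).2 _ (hπC c hc)).symm)
  have hsq : ∀ a ∈ C, ∀ c ∈ C, Commute (a * a) c := fun a ha c hc =>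
    hinjC _ (mul_mem ha ha) c hc (by
      rw [map_mul]
      exact (mem_centralizer_iff.mp (hsqC _ (hπC a ha)).2 _ (hπC c hc)).symm)
  -- the commutators with the half power
  have hkey : ∀ (d : H), d ∈ C → (∀ q : ℕ, q.Prime → q ≠ 2 → d ∈ centralizer (pCore q H : Set H)) → d = 1 :=
    fun d hd h => eq_one_of_centralizes_odd hO (by
      obtain ⟨j, hj⟩ := hC2 ⟨d, hd⟩
      exact ⟨j, by simpa using congrArg Subtype.val hj⟩) h
  have hk : ∀ q : ℕ, q.Prime → q ≠ 2 →
      (∀ u ∈ C, ∀ w ∈ C, ⁅y * (u * y * u⁻¹), w⁆ ∈ centralizer (pCore q H : Set H)) ∧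
        ∀ z ∈ C, (∀ w ∈ C, Commute z w) → ⁅y, z⁆ ∈ centralizer (pCore q H : Set H) := fun q hq h2 => by
    haveI := Fact.mk hq
    refine key (hq.odd_of_ne_two h2) (hqK q hq h2) τ hτ (pCore q H) (Cores.pCore_isPGroup q) x hf (hexp x hx)
      (hsum x hx) C hC2 hxC hcen hsq fun A hA hAq hAc c hc => mem_centralizer_iff.mpr fun a ha =>
        mem_centralizer_iff.mp hc.2.1 a ⟨A, q, hA, hq, h2, hAq, hAc, ha⟩
  have hy2 : y * y = 1 := by
    rw [hy, ← pow_add, ← two_mul, ← pow_succ', Nat.sub_add_cancel (show 1 ≤ f by omega), hexp x hx]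
  have hyC : ∀ a ∈ C, y * a * y⁻¹ ∈ C := hxC.pow _
  have hyu : ∀ u ∈ C, y * (u * y * u⁻¹) ∈ C := fun u hu => by
    have h := mul_mem (hyC u hu) (inv_mem hu)
    rwa [show y⁻¹ = y from (eq_inv_of_mul_eq_one_left hy2).symm, mul_assoc, mul_assoc, ← mul_assoc u] at h
  have hA : ∀ u ∈ C, ∀ w ∈ C, Commute (y * (u * y * u⁻¹)) w := fun u hu w hw =>
    commutatorElement_eq_one_iff_commute.mp (hkey _
      (mul_mem (mul_mem (mul_mem (hyu u hu) hw) (inv_mem (hyu u hu))) (inv_mem hw))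
      fun q hq h2 => (hk q hq h2).1 u hu w hw)
  have hB : ∀ z ∈ C, (∀ w ∈ C, Commute z w) → Commute y z := fun z hz hzc =>
    commutatorElement_eq_one_iff_commute.mp (hkey _
      (mul_mem (hyC z hz) (inv_mem hz))
      fun q hq h2 => (hk q hq h2).2 z hz hzc)
  -- the stabilizer of the series
  set T := Nb ⊓ centralizer (Zb : Set (H ⧸ K0)) ⊓
    (centralizer ((Cb.map (QuotientGroup.mk' Zb)) : Set ((H ⧸ K0) ⧸ Zb))).comap (QuotientGroup.mk' Zb) with hT
  haveI : (Cb.map (QuotientGroup.mk' Zb)).Normal := hCbn.map _ (QuotientGroup.mk'_surjective Zb)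
  haveI : T.Normal := inferInstance
  have hyT : π y ∈ T := by
    refine ⟨⟨mem_map_of_mem π hyN, mem_centralizer_iff.mpr fun z hz => ?_⟩, mem_centralizer_iff.mpr ?_⟩
    · obtain ⟨c, hc, rfl⟩ := hCsurj z hz.1
      refine (((hB c hc fun w hw => hinjC c hc w hw ?_).map π).eq).symm
      exact (mem_centralizer_iff.mp hz.2 _ (hπC w hw)).symm
    · rintro _ ⟨z, hz, rfl⟩
      obtain ⟨u, hu, rfl⟩ := hCsurj z hz
      refine (commutatorElement_eq_one_iff_commute.mp ?_).symm.eq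
      rw [← map_commutatorElement, QuotientGroup.mk'_apply, QuotientGroup.eq_one_iff]
      have e : ⁅π y, π u⁆ = π (y * (u * y * u⁻¹)) := by
        rw [← map_commutatorElement, commutatorElement_def, show y⁻¹ = y from (eq_inv_of_mul_eq_one_left hy2).symm]
        simp only [mul_assoc]
      rw [e]
      refine ⟨hπC _ (hyu u hu), mem_centralizer_iff.mpr fun w hw => ?_⟩
      obtain ⟨w, hw', rfl⟩ := hCsurj w hw
      exact ((hA u hu w hw').map π).eq.symm
  refine Cores.le_pCore (IsPGroup.iff_orderOf.mpr fun g => ?_) hyT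
  obtain ⟨k, m, hm, hkm⟩ := Nat.exists_eq_pow_mul_and_not_dvd (orderOf_pos g).ne' 2 (by omega)
  refine ⟨k, ?_⟩
  set s : H ⧸ K0 := ((g ^ 2 ^ k : T) : H ⧸ K0) with hs
  have hsT : s ∈ T := (g ^ 2 ^ k : T).2
  have hsm : orderOf s = m := by
    rw [hs, Subgroup.orderOf_coe, orderOf_pow_of_dvd (pow_ne_zero _ two_ne_zero) (hkm ▸ dvd_mul_right _ _), hkm,
      Nat.mul_div_cancel_left _ (Nat.pow_pos (by omega))]
  set E := zpowers s with hE
  have hEodd : (Nat.card E).Coprime 2 := by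
    rw [hE, Nat.card_zpowers, hsm]
    exact (Nat.prime_two.coprime_iff_not_dvd.mpr hm).symm
  have hcop : ∀ U : Subgroup (H ⧸ K0), IsPGroup 2 U → (Nat.card E).Coprime (Nat.card U) := fun U hU => by
    obtain ⟨j, hj⟩ := hU.exists_card_eq
    rw [hj]; exact hEodd.pow_right j
  have hET : E ≤ T := zpowers_le.mpr hsT
  have hECb : E ≤ centralizer (Cb : Set (H ⧸ K0)) := by
    refine Coprime.le_centralizer_of_series le_normalizer_of_normal (hcop Cb hCb2)
      (Or.inl (Coprime.isSolvable_of_isMulCommutative E)) (N := Zb)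
      (hET.trans (inf_le_left.trans inf_le_right)) (commutator_le.mpr fun a ha e he => ?_)
    rw [← QuotientGroup.eq_one_iff, ← QuotientGroup.mk'_apply, map_commutatorElement,
      commutatorElement_eq_one_iff_commute]
    exact mem_centralizer_iff.mp (hET he).2 _ (mem_map_of_mem _ ha)
  have hEB : E ≤ centralizer (B1 : Set (H ⧸ K0)) := by
    refine Coprime.le_centralizer_of_pxq (p := 2) (P := Cb) hCb2 hEodd hB12 (le_centralizer_iff.mp hECb)
      le_normalizer_of_normal le_normalizer_of_normal ?_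
    rintro a ⟨haB, haC⟩
    have h1 : (⟨a, haB⟩ : B1) ∈ C0 := hC0C (mem_centralizer_iff.mpr fun b hb =>
      Subtype.ext (mem_centralizer_iff.mp haC b (mem_map_of_mem _ hb)))
    exact le_centralizer_iff.mp hECb (mem_map_of_mem B1.subtype h1)
  have hsB := hB1C s (hsT.1.1) (hEB (mem_zpowers s))
  have hs1 : s = 1 := by
    obtain ⟨j, hj⟩ := hB12 ⟨s, hsB⟩
    have h1 : orderOf s ∣ 2 ^ j := orderOf_dvd_of_pow_eq_one (by simpa using congrArg Subtype.val hj)
    rw [← orderOf_eq_one_iff, hsm]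
    exact Nat.eq_one_of_dvd_coprimes ((Nat.prime_two.coprime_iff_not_dvd.mpr hm).pow_left j) (hsm ▸ h1) dvd_rfl
  rw [hkm]
  have : m = 1 := by rw [← hsm, hs1, orderOf_one]
  rw [this, mul_one]

end Cfsg.Agent.GenA.TwoLength
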