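import Mathlib

/-!
Isometries of an alternating pairing on a group of odd prime exponent, normalized by a square root of
an isometric involution inverting at most a plane: the involution centralizes abelian 2-groups of
isometries, and commutes with groups of class two modulo their centres.
-/

set_option autoImplicit false

namespace Cfsg.Agent.GenA.TwoLength

open scoped commutatorElement

variable {A K : Type*} [CommGroup A] [Field K]

/-- A nondegenerate alternating pairing with values of odd order. -/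
structure Form (A K : Type*) [CommGroup A] [Field K] where
  lam : A → A → K
  mul_left : ∀ a b c, lam (a * b) c = lam a c * lam b c
  mul_right : ∀ a b c, lam a (b * c) = lam a b * lam a c
  alt : ∀ a, lam a a = 1
  sq : ∀ a b, lam a b * lam a b = 1 → lam a b = 1
  nondeg : ∀ a, (∀ b, lam a b = 1) → a = 1

namespace Form

variable (F : Form A K)

theorem one_right (a : A) : F.lam a 1 = 1 := by
  have h := F.mul_right a a 1
  rw [mul_one, F.alt, one_mul] at h
  exact h.symm

theorem one_left (a : A) : F.lam 1 a = 1 := by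
  have h := F.mul_left a 1 a
  rw [mul_one, F.alt, one_mul] at h
  exact h.symm

theorem swap (a b : A) : F.lam a b * F.lam b a = 1 := by
  have h := F.alt (a * b)
  rw [F.mul_left, F.mul_right, F.mul_right, F.alt, F.alt, one_mul, mul_one] at h
  exact h

theorem inv_right (a b : A) : F.lam a b * F.lam a b⁻¹ = 1 := by
  rw [← F.mul_right, mul_inv_cancel, F.one_right]

/-- The isometries. -/
def isom [Finite A] : Subgroup (MulAut A) where
  carrier := {g | ∀ a b, F.lam (g a) (g b) = F.lam a b}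
  one_mem' := fun a b => rfl
  mul_mem' := fun {g h} hg hh a b => by rw [MulAut.mul_apply, MulAut.mul_apply, hg, hh]
  inv_mem' := fun {g} hg a b => by
    conv_rhs => rw [← MulAut.apply_inv_self A g a, ← MulAut.apply_inv_self A g b, hg]

/-- Nondegenerate on `M`. -/
def ND (M : Subgroup A) : Prop := ∀ a ∈ M, (∀ b ∈ M, F.lam a b = 1) → a = 1

theorem nd_top : F.ND ⊤ := fun a _ h => F.nondeg a fun b => h b trivial

theorem eq_bot_of_nd_cyclic {M : Subgroup A} (hM : F.ND M) {v : A} (hv : M ≤ Subgroup.zpowers v) :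
    M = ⊥ := by
  rw [eq_bot_iff]
  intro a ha
  let R : Subgroup A :=
    { carrier := {x | F.lam v x = 1}
      one_mem' := F.one_right v
      mul_mem' := fun {x y} hx hy => by
        simp only [Set.mem_setOf_eq] at *
        rw [F.mul_right, hx, hy, one_mul]
      inv_mem' := fun {x} hx => by
        simp only [Set.mem_setOf_eq] at *
        have := F.inv_right v x
        rwa [hx, one_mul] at this }
  have hR : Subgroup.zpowers v ≤ R := Subgroup.zpowers_le.mpr (F.alt v)
  let L : Subgroup A :=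
    { carrier := {x | ∀ y ∈ Subgroup.zpowers v, F.lam x y = 1}
      one_mem' := fun y _ => F.one_left y
      mul_mem' := fun {x z} hx hz y hy => by rw [F.mul_left, hx y hy, hz y hy, one_mul]
      inv_mem' := fun {x} hx y hy => by
        have h1 : F.lam x y * F.lam x⁻¹ y = 1 := by rw [← F.mul_left, mul_inv_cancel, F.one_left]
        rwa [hx y hy, one_mul] at h1 }
  have hL : Subgroup.zpowers v ≤ L := Subgroup.zpowers_le.mpr fun y hy => hR hy
  exact Subgroup.mem_bot.mpr (hM a ha fun b hb => hL (hv ha) b (hv hb))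

end Form

/-- The inverted elements. -/
def neg (g : MulAut A) : Subgroup A where
  carrier := {a | g a = a⁻¹}
  one_mem' := by simp
  mul_mem' := fun {a b} ha hb => by
    simp only [Set.mem_setOf_eq] at *
    rw [map_mul, ha, hb, mul_inv]
  inv_mem' := fun {a} ha => by
    simp only [Set.mem_setOf_eq] at *
    rw [map_inv, ha]

theorem mem_neg {g : MulAut A} {a : A} : a ∈ neg g ↔ g a = a⁻¹ := Iff.rfl

theorem inv_apply_self (g : MulAut A) (a : A) : g⁻¹ (g a) = a := MulAut.inv_apply_self A g a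

theorem apply_inv (g : MulAut A) (a : A) : g (g⁻¹ a) = a := MulAut.apply_inv_self A g a

theorem mem_neg_conj {g t : MulAut A} {a : A} (ha : a ∈ neg t) : g a ∈ neg (g * t * g⁻¹) := by
  rw [mem_neg, MulAut.mul_apply, MulAut.mul_apply, inv_apply_self, mem_neg.mp ha, map_inv]

theorem apply_mem_neg {g t : MulAut A} (h : Commute g t) {a : A} (ha : a ∈ neg t) : g a ∈ neg t := by
  have := mem_neg_conj (g := g) ha
  rwa [h.eq, mul_inv_cancel_right] at this

/-- `g` is the identity or the inversion on `M`. -/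
def Scal (g : MulAut A) (M : Subgroup A) : Prop := (∀ a ∈ M, g a = a) ∨ ∀ a ∈ M, g a = a⁻¹

variable [Finite A] {F : Form A K} {q : ℕ} [hqf : Fact q.Prime] (hqo : Odd q) (hexp : ∀ a : A, a ^ q = 1)

/-- An involution inverting at most a plane. -/
structure Refl (F : Form A K) (q : ℕ) (t : MulAut A) : Prop where
  mem : t ∈ F.isom
  sq : t * t = 1
  card : Nat.card (neg t) ≤ q * q

theorem Refl.conj {t g : MulAut A} (ht : Refl F q t) (hg : g ∈ F.isom) : Refl F q (g * t * g⁻¹) := by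
  refine ⟨mul_mem (mul_mem hg ht.mem) (inv_mem hg), ?_, ?_⟩
  · rw [show g * t * g⁻¹ * (g * t * g⁻¹) = g * (t * t) * g⁻¹ by group, ht.sq, mul_one, mul_inv_cancel]
  · refine le_trans (le_of_eq ?_) ht.card
    refine (Nat.card_congr (Equiv.ofBijective (fun a : neg t => (⟨g a, mem_neg_conj a.2⟩ : neg (g * t * g⁻¹)))
      ⟨fun a b e => Subtype.ext (g.injective (congrArg Subtype.val e)), fun b => ?_⟩)).symm
    refine ⟨⟨g⁻¹ b, ?_⟩, Subtype.ext (apply_inv g b)⟩
    have := mem_neg_conj (g := g⁻¹) b.2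
    rwa [show g⁻¹ * (g * t * g⁻¹) * g⁻¹⁻¹ = t by group] at this

include hqo hexp

theorem eq_one_of_inv {a : A} (h : a = a⁻¹) : a = 1 := by
  obtain ⟨m, hm⟩ := hqo
  have h2 : a * a = 1 := by nth_rw 1 [h]; exact inv_mul_cancel a
  have := hexp a
  rwa [hm, pow_succ, pow_mul, sq, h2, one_pow, one_mul] at this

theorem split {g : MulAut A} {M : Subgroup A} (hM : ∀ a ∈ M, g a ∈ M) (hg : ∀ a ∈ M, g (g a) = a)
    {a : A} (ha : a ∈ M) : ∃ p ∈ M, ∃ m ∈ M, g p = p ∧ g m = m⁻¹ ∧ a = p * m := by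
  obtain ⟨k, hk⟩ := hqo
  refine ⟨(a * g a) ^ (k + 1), pow_mem (mul_mem ha (hM a ha)) _, (a * (g a)⁻¹) ^ (k + 1),
    pow_mem (mul_mem ha (inv_mem (hM a ha))) _, ?_, ?_, ?_⟩
  · rw [map_pow, map_mul, hg a ha, mul_comm]
  · rw [map_pow, map_mul, map_inv, hg a ha, ← inv_pow, mul_inv, inv_inv, mul_comm]
  · rw [← mul_pow, mul_mul_mul_comm, mul_inv_cancel, mul_one, ← sq, ← pow_mul,
      show 2 * (k + 1) = q + 1 by omega, pow_succ, hexp, one_mul]

omit hqo hexp hqf in
theorem orth {g : MulAut A} (hg : g ∈ F.isom) {p m : A} (hp : g p = p) (hm : g m = m⁻¹) :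
    F.lam p m = 1 ∧ F.lam m p = 1 := by
  have h1 : F.lam p m = 1 := by
    refine F.sq _ _ ?_
    have h := hg p m
    rw [hp, hm] at h
    nth_rw 2 [← h]
    exact F.inv_right p m
  exact ⟨h1, by simpa [h1] using F.swap p m⟩

theorem nd_neg {g : MulAut A} (hgI : g ∈ F.isom) {M : Subgroup A} (hND : F.ND M)
    (hM : ∀ a ∈ M, g a ∈ M) (hg : ∀ a ∈ M, g (g a) = a) : F.ND (M ⊓ neg g) := by
  rintro a ⟨haM, han⟩ h
  refine hND a haM fun b hb => ?_
  obtain ⟨p, hp, m, hm, hgp, hgm, rfl⟩ := split hqo hexp hM hg hb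
  rw [F.mul_right, (orth hgI hgp (mem_neg.mp han)).2, h m ⟨hm, hgm⟩, one_mul]

section Refl

variable {t : MulAut A} (ht : Refl F q t)
include ht

theorem Refl.apply_apply (a : A) : t (t a) = a := by rw [← MulAut.mul_apply, ht.sq, MulAut.one_apply]

theorem Refl.nd : F.ND (neg t) := by
  have h := nd_neg hqo hexp ht.mem F.nd_top (fun _ _ => trivial) fun a _ => ht.apply_apply hqo hexp a
  rwa [top_inf_eq] at h

theorem sub_plane {M : Subgroup A} (hM : F.ND M) (hle : M ≤ neg t) : M = ⊥ ∨ M = neg t := by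
  by_cases h0 : M = ⊥
  · exact Or.inl h0
  refine Or.inr (Subgroup.eq_of_le_of_card_ge hle ?_)
  obtain ⟨v, hv, hv1⟩ := (M.bot_or_exists_ne_one).resolve_left h0
  have hMq : IsPGroup q M := fun a => ⟨1, Subtype.ext (by simpa using hexp a)⟩
  obtain ⟨i, hi⟩ := hMq.exists_card_eq
  have hne : ¬ M ≤ Subgroup.zpowers v := fun h => h0 (F.eq_bot_of_nd_cyclic hM h)
  have hvq : Nat.card (Subgroup.zpowers v) = q := by
    rw [Nat.card_zpowers]; exact orderOf_eq_prime (hexp v) hv1
  have hlt : Nat.card (Subgroup.zpowers v) < Nat.card M := by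
    refine lt_of_le_of_ne (Subgroup.card_le_of_le (Subgroup.zpowers_le.mpr hv)) fun e => hne ?_
    exact (Subgroup.eq_of_le_of_card_ge (Subgroup.zpowers_le.mpr hv) e.ge).ge
  rw [hvq, hi] at hlt
  refine le_trans ht.card ?_
  rw [hi, ← sq]
  refine Nat.pow_le_pow_right hqf.out.pos ?_
  by_contra h2
  have h3 : q ^ i ≤ q ^ 1 := Nat.pow_le_pow_right hqf.out.pos (by omega)
  rw [pow_one] at h3
  omega

theorem Refl.scal {g : MulAut A} (hgI : g ∈ F.isom) (hM : ∀ a ∈ neg t, g a ∈ neg t)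
    (hg : ∀ a ∈ neg t, g (g a) = a) : Scal g (neg t) := by
  rcases sub_plane hqo hexp ht (nd_neg hqo hexp hgI (ht.nd hqo hexp) hM hg) inf_le_left with h | h
  · refine Or.inl fun a ha => ?_
    obtain ⟨p, -, m, hm, hp, hgm, rfl⟩ := split hqo hexp hM hg ha
    have : m = 1 := Subgroup.mem_bot.mp (h ▸ (⟨hm, hgm⟩ : m ∈ neg t ⊓ neg g))
    rw [this, mul_one, hp]
  · exact Or.inr fun a ha => (h.ge ha).2

theorem Refl.neg_ne_bot (h1 : t ≠ 1) : neg t ≠ ⊥ := fun h0 => h1 (MulEquiv.ext fun a => by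
  obtain ⟨p, -, m, -, hp, hm, rfl⟩ := split hqo hexp (g := t) (M := ⊤) (fun _ _ => trivial)
    (fun a _ => ht.apply_apply hqo hexp a) (Subgroup.mem_top a)
  have : m = 1 := Subgroup.mem_bot.mp (h0 ▸ (mem_neg.mpr hm : m ∈ neg t))
  rw [MulAut.one_apply, this, mul_one, hp])

theorem Refl.eq_of_neg_le {t' : MulAut A} (h1 : t ≠ 1) (ht' : Refl F q t') (hc : Commute t t')
    (hle : neg t ≤ neg t') : t = t' := by
  have hP : neg t = neg t' :=
    (sub_plane hqo hexp ht' (ht.nd hqo hexp) hle).resolve_left (ht.neg_ne_bot hqo hexp h1)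
  have hfix : ∀ p, t p = p → t' p = p := by
    intro p hp
    have hinv : t (t' p) = t' p := by rw [← MulAut.mul_apply, hc.eq, MulAut.mul_apply, hp]
    obtain ⟨k, hk⟩ := hqo
    set m := p * (t' p)⁻¹ with hm
    have hmn : t' m = m⁻¹ := by rw [hm, map_mul, map_inv, ht'.apply_apply ⟨k, hk⟩ hexp, mul_inv, inv_inv, mul_comm]
    have hm1 : m = 1 := eq_one_of_inv ⟨k, hk⟩ hexp (by
      have h := mem_neg.mp (hP.ge (mem_neg.mpr hmn))
      rwa [show t m = m by rw [hm, map_mul, map_inv, hp, hinv]] at h)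
    exact (mul_inv_eq_one.mp hm1).symm
  refine MulEquiv.ext fun a => ?_
  obtain ⟨p, -, m, -, hp, hm, rfl⟩ := split hqo hexp (g := t) (M := ⊤) (fun _ _ => trivial)
    (fun a _ => ht.apply_apply hqo hexp a) (Subgroup.mem_top a)
  rw [map_mul, map_mul, hp, hfix p hp, hm, mem_neg.mp (hle (mem_neg.mpr hm))]

/-- Commuting involutions inverting planes are equal or one fixes the plane of the other. -/
theorem Refl.dichotomy {t' : MulAut A} (h1 : t ≠ 1) (ht' : Refl F q t') (hc : Commute t t')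
    (hne : t ≠ t') : ∀ a ∈ neg t, t' a = a :=
  ((ht.scal hqo hexp ht'.mem (fun _ ha => apply_mem_neg hc.symm ha)
    fun a _ => ht'.apply_apply hqo hexp a).resolve_right
      fun h => hne (ht.eq_of_neg_le hqo hexp h1 ht' hc fun _ ha => mem_neg.mpr (h _ ha)))

theorem Refl.inv_eq : t⁻¹ = t := (eq_inv_of_mul_eq_one_left ht.sq).symm

end Refl

variable {b t : MulAut A} (hb : b ∈ F.isom) (htb : b * b = t) (ht : Refl F q t)
include hb htb ht

theorem root_scal {t' : MulAut A} (h1 : t ≠ 1) (ht' : Refl F q t') (h1' : t' ≠ 1)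
    (hc : Commute b t') (hne : t ≠ t') : Scal b (neg t') :=
  ht'.scal hqo hexp hb (fun _ ha => apply_mem_neg hc ha) fun a ha => by
    rw [← MulAut.mul_apply, htb]
    exact ht'.dichotomy hqo hexp h1' ht (htb ▸ (hc.mul_left hc).symm) (Ne.symm hne) a ha

theorem sq_apply_of_scal {m : A} {h : MulAut A} (hm : m ∈ neg t)
    (hh : (∀ x ∈ neg t, h x = b⁻¹ x) ∨ ∀ x ∈ neg t, h x = (b⁻¹ x)⁻¹) :
    h (h m) = m⁻¹ := by
  have hbi : ∀ x ∈ neg t, b⁻¹ x ∈ neg t := fun x hx =>
    apply_mem_neg (htb ▸ ((Commute.refl b).mul_right (Commute.refl b)).inv_left) hx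
  have h2 : b⁻¹ (b⁻¹ m) = m⁻¹ := by
    rw [← MulAut.mul_apply, ← mul_inv_rev, htb, ht.inv_eq hqo hexp, mem_neg.mp hm]
  rcases hh with hh | hh
  · rw [hh m hm, hh _ (hbi m hm), h2]
  · rw [hh m hm, map_inv, hh _ (hbi m hm), inv_inv, h2]

/-- The involution centralizes abelian 2-groups of isometries. -/
theorem abelian_commute (D : Subgroup (MulAut A)) (hD : D ≤ F.isom)
    (hcomm : ∀ x ∈ D, ∀ y ∈ D, Commute x y) (hD2 : ∀ d ∈ D, ∃ j : ℕ, d ^ 2 ^ j = 1)
    (hbD : ∀ d ∈ D, b * d * b⁻¹ ∈ D) : ∀ d ∈ D, Commute t d := by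
  by_cases h1 : t = 1
  · intro d _; rw [h1]; exact Commute.one_left d
  have et : t⁻¹ = t := ht.inv_eq hqo hexp
  have hbt : Commute b t := htb ▸ (Commute.refl b).mul_right (Commute.refl b)
  suffices ∀ j : ℕ, ∀ d ∈ D, d ^ 2 ^ j = 1 → Commute t d by
    intro d hd
    obtain ⟨j, hj⟩ := hD2 d hd
    exact this j d hd hj
  intro j
  induction j with
  | zero => intro d _ hd; rw [pow_zero, pow_one] at hd; rw [hd]; exact Commute.one_right t
  | succ j ih =>
    intro d hd hdj
    have hw : Commute t (d * d) := ih _ (mul_mem hd hd) (by rw [← sq, ← pow_mul, ← pow_succ', hdj])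
    set d' := b * d * b⁻¹ with hd'
    have hd'D : d' ∈ D := hbD d hd
    have htdD : t * d * t ∈ D := by
      have := hbD _ hd'D
      rw [hd', show b * (b * d * b⁻¹) * b⁻¹ = t * d * t⁻¹ by rw [← htb]; group, et] at this
      exact this
    set t' := d * t * d⁻¹ with ht'def
    have ht' : Refl F q t' := ht.conj (hD hd)
    set a := t * t' with ha
    have haD : a ∈ D := by
      rw [ha, ht'def, show t * (d * t * d⁻¹) = t * d * t * d⁻¹ by group]
      exact mul_mem htdD (inv_mem hd)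
    have haa : a * a = 1 := by
      have h3 : Commute (t * d * t) d⁻¹ := hcomm _ htdD _ (inv_mem hd)
      calc a * a = t * d * t * (d⁻¹ * (t * d * t)) * d⁻¹ := by rw [ha, ht'def]; group
        _ = t * d * (t * t) * d * t * (d⁻¹ * d⁻¹) := by rw [← h3.eq]; group
        _ = t * (d * d) * t * (d⁻¹ * d⁻¹) := by rw [ht.sq]; group
        _ = d * d * (t * t) * (d⁻¹ * d⁻¹) := by rw [hw.eq]; group
        _ = 1 := by rw [ht.sq]; group
    have hct : Commute t t' := by
      have e : a = a⁻¹ := eq_inv_of_mul_eq_one_left haa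
      rw [ha, mul_inv_rev, et, ht'.inv_eq hqo hexp] at e
      exact e
    by_contra hnc
    have hne : t ≠ t' := fun e => hnc (by
      show t * d = d * t
      calc t * d = t' * d := by rw [← e]
        _ = _ := by rw [ht'def]; group)
    have h1' : t' ≠ 1 := fun e => h1 (by
      calc t = d⁻¹ * t' * d := by rw [ht'def]; group
        _ = 1 := by rw [e]; group)
    have haneg : ∀ x ∈ neg t, a x = x⁻¹ := fun x hx => by
      rw [ha, MulAut.mul_apply, ht.dichotomy hqo hexp h1 ht' hct hne x hx, mem_neg.mp hx]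
    have hfix' : ∀ x ∈ neg t', t x = x := ht'.dichotomy hqo hexp h1' ht hct.symm hne.symm
    set a' := b * a * b⁻¹ with ha'
    set t'' := b * t' * b⁻¹ with ht''
    have hct'' : Commute t t'' := by
      show t * (b * t' * b⁻¹) = b * t' * b⁻¹ * t
      calc t * (b * t' * b⁻¹) = t * b * t' * b⁻¹ := by group
        _ = b * (t * t') * b⁻¹ := by rw [← hbt.eq]; group
        _ = b * t' * (t * b⁻¹) := by rw [hct.eq]; group
        _ = b * t' * (b⁻¹ * t) := by rw [hbt.inv_left.eq]
        _ = _ := by group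
    have hle : neg t' ≤ neg t'' := fun x hx => by
      have hx0 : d⁻¹ x ∈ neg t := by
        have := mem_neg_conj (g := d⁻¹) hx
        rwa [ht'def, show d⁻¹ * (d * t * d⁻¹) * d⁻¹⁻¹ = t by group] at this
      have h4 : a' (d⁻¹ x) = (d⁻¹ x)⁻¹ := by
        rw [ha', MulAut.mul_apply, MulAut.mul_apply, haneg _ (apply_mem_neg hbt.inv_left hx0), map_inv,
          apply_inv]
      have h5 : a' x = x⁻¹ := by
        have hca : Commute a' d := hcomm _ (hbD a haD) _ hd
        conv_lhs => rw [← apply_inv d x, ← MulAut.mul_apply, hca.eq, MulAut.mul_apply, h4,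
          map_inv, apply_inv]
      have e : a' = t'' * t := by
        rw [← hct''.eq, ha', ha, ht'',
          show b * (t * t') * b⁻¹ = b * t * b⁻¹ * (b * t' * b⁻¹) by group, hbt.eq, mul_inv_cancel_right]
      rw [e, MulAut.mul_apply, hfix' x hx] at h5
      exact mem_neg.mpr h5
    have hct2 : Commute t' t'' := by
      have e1 : t' = t * a := by rw [ha, ← mul_assoc, ht.sq, one_mul]
      have e2 : t'' = t * a' := by
        rw [ha', ha, show b * (t * t') * b⁻¹ = b * t * b⁻¹ * t'' by rw [ht'']; group, hbt.eq,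
          mul_inv_cancel_right, ← mul_assoc, ht.sq, one_mul]
      have hta : Commute t a := (Commute.refl t).mul_right hct
      have hta' : Commute t a' := by
        have e3 : a' = t * t'' := by rw [e2, ← mul_assoc, ht.sq, one_mul]
        rw [e3]; exact (Commute.refl t).mul_right hct''
      rw [e1, e2]
      exact ((Commute.refl t).mul_right hta').mul_left (hta.symm.mul_right (hcomm a haD a' (hbD a haD)))
    have hbt' : Commute b t' := by
      have e := ht'.eq_of_neg_le hqo hexp h1' (ht'.conj hb) hct2 hle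
      show b * t' = t' * b
      calc b * t' = t'' * b := by rw [ht'']; group
        _ = _ := by rw [ht'', ← e]
    have hs := root_scal hqo hexp hb htb ht h1 ht' h1' hbt' hne
    set h := d⁻¹ * d' with hh
    have hhD : h ∈ D := mul_mem (inv_mem hd) hd'D
    have hh' : (∀ x ∈ neg t, h x = b⁻¹ x) ∨ ∀ x ∈ neg t, h x = (b⁻¹ x)⁻¹ := by
      have hdm : ∀ x ∈ neg t, d (b⁻¹ x) ∈ neg t' := fun x hx =>
        mem_neg_conj (apply_mem_neg hbt.inv_left hx)
      rcases hs with hs | hs
      · exact Or.inl fun x hx => by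
          rw [hh, hd', MulAut.mul_apply, MulAut.mul_apply, MulAut.mul_apply, hs _ (hdm x hx), inv_apply_self]
      · exact Or.inr fun x hx => by
          rw [hh, hd', MulAut.mul_apply, MulAut.mul_apply, MulAut.mul_apply, hs _ (hdm x hx), map_inv,
            inv_apply_self]
    obtain ⟨m, hm, hm1⟩ := ((neg t).bot_or_exists_ne_one).resolve_left (ht.neg_ne_bot hqo hexp h1)
    set w := d * d with hwdef
    have hhh : h * h = w⁻¹ * (b * w * b⁻¹) := by
      have e : Commute d' d⁻¹ := hcomm _ hd'D _ (inv_mem hd)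
      calc h * h = d⁻¹ * (d' * d⁻¹) * d' := by rw [hh]; group
        _ = d⁻¹ * (d⁻¹ * d') * d' := by rw [e.eq]
        _ = _ := by rw [hwdef, hd']; group
    have hwb : b⁻¹ (w m) = w (b⁻¹ m) := by
      have hwm : w m ∈ neg t := apply_mem_neg hw.symm hm
      have e : h (w m) = w (h m) := by
        rw [← MulAut.mul_apply, (hcomm h hhD w (mul_mem hd hd)).eq, MulAut.mul_apply]
      rcases hh' with hh' | hh'
      · rwa [hh' _ hwm, hh' _ hm] at e
      · rw [hh' _ hwm, hh' _ hm, map_inv, inv_inj] at e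
        exact e
    refine hm1 (eq_one_of_inv hqo hexp ?_)
    rw [← sq_apply_of_scal hqo hexp hb htb ht hm hh', ← MulAut.mul_apply, hhh, MulAut.mul_apply,
      MulAut.mul_apply, MulAut.mul_apply, ← hwb, apply_inv, inv_apply_self]

set_option maxHeartbeats 1000000 in
/-- Commutators with the involution are central in a group of class two with central squares. -/
theorem central_comm (C : Subgroup (MulAut A)) (hC : C ≤ F.isom)
    (hC2 : ∀ d ∈ C, ∃ j : ℕ, d ^ 2 ^ j = 1) (hbC : ∀ d ∈ C, b * d * b⁻¹ ∈ C)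
    (hbC' : ∀ d ∈ C, b⁻¹ * d * b ∈ C)
    (hcen : ∀ x ∈ C, ∀ y ∈ C, ∀ z ∈ C, Commute ⁅x, y⁆ z) (hsq : ∀ x ∈ C, ∀ z ∈ C, Commute (x * x) z) :
    ∀ u ∈ C, ∀ w ∈ C, Commute (t * (u * t * u⁻¹)) w := by
  classical
  by_cases h1 : t = 1
  · intro u _ w _
    rw [h1, one_mul, mul_one, mul_inv_cancel]
    exact Commute.one_left w
  have et : t⁻¹ = t := ht.inv_eq hqo hexp
  have hbt : Commute b t := htb ▸ (Commute.refl b).mul_right (Commute.refl b)
  have htC : ∀ x ∈ C, t * x * t ∈ C := fun x hx => by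
    have := hbC _ (hbC x hx)
    rwa [show b * (b * x * b⁻¹) * b⁻¹ = t * x * t⁻¹ by rw [← htb]; group, et] at this
  obtain ⟨τ, hτdef⟩ : ∃ τ : MulAut A → MulAut A, ∀ u, τ u = u * t * u⁻¹ := ⟨_, fun _ => rfl⟩
  obtain ⟨a, hadef⟩ : ∃ a : MulAut A → MulAut A, ∀ u, a u = t * τ u := ⟨_, fun _ => rfl⟩
  have hτm : ∀ u v, τ (u * v) = u * τ v * u⁻¹ := fun u v => by rw [hτdef, hτdef]; group
  -- the centre
  set Zc := C ⊓ Subgroup.centralizer (C : Set (MulAut A)) with hZc
  have memZ : ∀ {x}, x ∈ C → (∀ z ∈ C, Commute x z) → x ∈ Zc := fun hx h =>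
    ⟨hx, Subgroup.mem_centralizer_iff.mpr fun z hz => (h z hz).symm.eq⟩
  have Zcomm : ∀ {x}, x ∈ Zc → ∀ z ∈ C, Commute x z := fun hx z hz =>
    ((Subgroup.mem_centralizer_iff.mp hx.2) z hz).symm
  have hbrC : ∀ x ∈ C, ∀ y ∈ C, ⁅x, y⁆ ∈ C := fun x hx y hy =>
    mul_mem (mul_mem (mul_mem hx hy) (inv_mem hx)) (inv_mem hy)
  have hbr : ∀ x ∈ C, ∀ y ∈ C, ⁅x, y⁆ ∈ Zc := fun x hx y hy => memZ (hbrC x hx y hy) (hcen x hx y hy)
  have htZ : ∀ z ∈ Zc, Commute t z := abelian_commute hqo hexp hb htb ht Zc (inf_le_left.trans hC)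
    (fun x hx y hy => Zcomm hx y hy.1) (fun d hd => hC2 d hd.1) fun d hd =>
      memZ (hbC d hd.1) fun z hz => by
        have h := Commute.map (Zcomm hd _ (hbC' z hz)) (MulAut.conj b).toMonoidHom
        simpa [mul_assoc] using h
  have hτz : ∀ z ∈ Zc, τ z = t := fun z hz => by rw [hτdef, ← (htZ z hz).eq, mul_inv_cancel_right]
  -- bilinearity of commutators
  have hL : ∀ x ∈ C, ∀ y ∈ C, ∀ z ∈ C, ⁅x * y, z⁆ = ⁅x, z⁆ * ⁅y, z⁆ := fun x hx y hy z hz => by
    rw [commutatorElement_mul_left_eq_conj_mul, ← ((hcen y hy z hz x hx)).eq, mul_inv_cancel_right,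
      (hcen y hy z hz _ (hbrC x hx z hz)).eq]
  have hself : ∀ x ∈ C, ∀ z ∈ C, ⁅x, z⁆ * ⁅x, z⁆ = 1 := fun x hx z hz => by
    rw [← hL x hx x hx z hz, commutatorElement_eq_one_iff_commute.mpr (hsq x hx z hz)]
  have hinv : ∀ x ∈ C, ∀ z ∈ C, ⁅z, x⁆ = ⁅x, z⁆ := fun x hx z hz => by
    rw [← commutatorElement_inv]; exact (eq_inv_of_mul_eq_one_left (hself x hx z hz)).symm
  have hR : ∀ x ∈ C, ∀ y ∈ C, ∀ z ∈ C, ⁅z, x * y⁆ = ⁅z, x⁆ * ⁅z, y⁆ := fun x hx y hy z hz => by
    rw [hinv (x * y) (mul_mem hx hy) z hz, hL x hx y hy z hz, hinv z hz x hx, hinv z hz y hy]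
  have hLi : ∀ x ∈ C, ∀ z ∈ C, ⁅x⁻¹, z⁆ = ⁅x, z⁆ := fun x hx z hz => by
    have h := hL x hx x⁻¹ (inv_mem hx) z hz
    rw [mul_inv_cancel, commutatorElement_one_left] at h
    exact (eq_inv_of_mul_eq_one_right h.symm).trans (eq_inv_of_mul_eq_one_left (hself x hx z hz)).symm
  have hRi : ∀ x ∈ C, ∀ z ∈ C, ⁅z, x⁻¹⁆ = ⁅z, x⁆ := fun x hx z hz => by
    rw [hinv x⁻¹ (inv_mem hx) z hz, hLi x hx z hz, hinv z hz x hx]
  -- the elements `a u`
  have haC : ∀ u ∈ C, a u ∈ C := fun u hu => by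
    rw [hadef, hτdef, show t * (u * t * u⁻¹) = t * u * t * u⁻¹ by group]
    exact mul_mem (htC u hu) (inv_mem hu)
  have haexp : ∀ u ∈ C, ∀ x ∈ C, ⁅a u, x⁆ = ⁅t * u * t, x⁆ * ⁅u, x⁆ := fun u hu x hx => by
    rw [hadef, hτdef, show t * (u * t * u⁻¹) = t * u * t * u⁻¹ by group, hL _ (htC u hu) _ (inv_mem hu) x hx,
      hLi u hu x hx]
  have haa : ∀ u ∈ C, ∀ v ∈ C, Commute (a u) (a v) := fun u hu v hv => by
    rw [← commutatorElement_eq_one_iff_commute, haexp u hu _ (haC v hv)]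
    have e : a v = t * v * t * v⁻¹ := by rw [hadef, hτdef]; group
    have e2 : ⁅t * u * t, t * v * t⁆ = ⁅u, v⁆ := by
      have hz := (htZ _ (hbr u hu v hv))
      calc ⁅t * u * t, t * v * t⁆ = t * u * (t * t) * v * (t * t⁻¹) * u⁻¹ * (t⁻¹ * t⁻¹) * v⁻¹ * t⁻¹ := by
            simp only [commutatorElement_def]; group
        _ = t * ⁅u, v⁆ * t⁻¹ := by
            rw [← mul_inv_rev t t, ht.sq, mul_inv_cancel]; simp only [commutatorElement_def]; group
        _ = _ := by rw [hz.eq, mul_inv_cancel_right]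
    have e3 : ⁅t * u * t, v⁆ = ⁅u, t * v * t⁆ := by
      have hz := (htZ _ (hbr u hu _ (htC v hv)))
      have h6 : t * ⁅u, t * v * t⁆ * t⁻¹ = ⁅t * u * t, v⁆ := by
        rw [show t * ⁅u, t * v * t⁆ * t⁻¹ = ⁅t * u * t⁻¹, t * (t * v * t) * t⁻¹⁆ by
          simp only [commutatorElement_def]; group, et,
          show t * (t * v * t) * t = t * t * v * (t * t) by group, ht.sq, one_mul, mul_one]
      rw [← h6, hz.eq, mul_inv_cancel_right]
    rw [e, hR _ (htC v hv) _ (inv_mem hv) _ (htC u hu), hR _ (htC v hv) _ (inv_mem hv) _ hu,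
      hRi v hv _ (htC u hu), hRi v hv u hu, e2, e3]
    calc ⁅u, v⁆ * ⁅u, t * v * t⁆ * (⁅u, t * v * t⁆ * ⁅u, v⁆)
        = ⁅u, v⁆ * (⁅u, t * v * t⁆ * ⁅u, t * v * t⁆) * ⁅u, v⁆ := by group
      _ = 1 := by rw [hself u hu _ (htC v hv), mul_one, hself u hu v hv]
  have hta : ∀ u ∈ C, Commute t (a u) := by
    intro u hu
    refine abelian_commute hqo hexp hb htb ht (Subgroup.closure (a '' (C : Set (MulAut A)))) ?_ ?_ ?_ ?_ _
      (Subgroup.subset_closure ⟨u, hu, rfl⟩)
    · rw [Subgroup.closure_le]; rintro _ ⟨v, hv, rfl⟩; exact hC (haC v hv)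
    · intro x hx y hy
      have h1 : ∀ v ∈ C, Commute (a v) x := fun v hv => by
        induction hx using Subgroup.closure_induction with
        | mem z hz => obtain ⟨w, hw, rfl⟩ := hz; exact haa v hv w hw
        | one => exact Commute.one_right _
        | mul _ _ _ _ h h' => exact h.mul_right h'
        | inv _ _ h => exact h.inv_right
      induction hy using Subgroup.closure_induction with
      | mem z hz => obtain ⟨w, hw, rfl⟩ := hz; exact (h1 w hw).symm
      | one => exact Commute.one_right _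
      | mul _ _ _ _ h h' => exact h.mul_right h'
      | inv _ _ h => exact h.inv_right
    · intro d hd
      exact hC2 d ((Subgroup.closure_le (K := C)).mpr (by rintro _ ⟨v, hv, rfl⟩; exact haC v hv) hd)
    · intro d hd
      have hle : (Subgroup.closure (a '' (C : Set (MulAut A)))).map (MulAut.conj b).toMonoidHom ≤
          Subgroup.closure (a '' (C : Set (MulAut A))) := by
        rw [MonoidHom.map_closure, Subgroup.closure_le]
        rintro _ ⟨_, ⟨v, hv, rfl⟩, rfl⟩
        refine Subgroup.subset_closure ⟨b * v * b⁻¹, hbC v hv, ?_⟩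
        show a (b * v * b⁻¹) = b * a v * b⁻¹
        rw [hadef, hadef, hτdef, hτdef,
          show b * (t * (v * t * v⁻¹)) * b⁻¹ = b * t * b⁻¹ * (b * v * b⁻¹ * (b * t * b⁻¹) * (b * v⁻¹ * b⁻¹)) by group,
          hbt.eq, mul_inv_cancel_right, show (b * v * b⁻¹)⁻¹ = b * v⁻¹ * b⁻¹ by group]
      exact hle ⟨d, hd, rfl⟩
  have hτR : ∀ u ∈ C, Refl F q (τ u) := fun u hu => hτdef u ▸ ht.conj (hC hu)
  have hτt : ∀ u ∈ C, Commute t (τ u) := fun u hu => by
    have h := hta u hu
    rw [hadef] at h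
    show t * τ u = τ u * t
    calc t * τ u = t * (t * (t * τ u)) := by rw [← mul_assoc t t, ht.sq, one_mul]
      _ = t * (t * τ u * t) := by rw [h.eq]
      _ = τ u * t := by rw [← mul_assoc t (t * τ u) t, ← mul_assoc t t, ht.sq, one_mul]
  have hτ1 : ∀ u, τ u ≠ 1 := fun u e => h1 (by
    rw [hτdef] at e
    calc t = u⁻¹ * (u * t * u⁻¹) * u := by group
      _ = 1 := by rw [e]; group)
  have hconja : ∀ w ∈ C, ∀ u ∈ C, w * a u * w⁻¹ = a w * a (w * u) := fun w hw u hu => by
    have e : w * a u * w⁻¹ = τ w * τ (w * u) := by rw [hadef, hτdef, hτdef, hτdef]; group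
    rw [e, hadef, hadef, (hτt w hw).eq,
      show τ w * t * (t * τ (w * u)) = τ w * (t * t) * τ (w * u) by group, ht.sq, mul_one]
  have hcomm2 : ∀ u ∈ C, ∀ w ∈ C, τ (u * w) = τ (w * u) := fun u hu w hw => by
    have hz := hbr u hu w hw
    rw [show u * w = ⁅u, w⁆ * (w * u) by simp only [commutatorElement_def]; group, hτm]
    have h7 : Commute ⁅u, w⁆ (τ (w * u)) := by
      rw [hτdef]
      exact ((Zcomm hz _ (mul_mem hw hu)).mul_right (htZ _ hz).symm).mul_right (Zcomm hz _ (mul_mem hw hu)).inv_right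
    rw [h7.eq, mul_inv_cancel_right]
  have hfixP : ∀ u ∈ C, τ u ≠ t → ∀ x ∈ neg t, τ u x = x := fun u hu hne =>
    ht.dichotomy hqo hexp h1 (hτR u hu) (hτt u hu) (Ne.symm hne)
  obtain ⟨m₀, hm₀, hm₀1⟩ := ((neg t).bot_or_exists_ne_one).resolve_left (ht.neg_ne_bot hqo hexp h1)
  -- `b` fixes all conjugates of `t`
  have hbτ : ∀ v ∈ C, Commute b (τ v) := by
    intro v hv
    set v' := b * v * b⁻¹ with hv'
    have hv'C : v' ∈ C := hbC v hv
    have hτv' : τ v' = b * τ v * b⁻¹ := by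
      rw [hτdef, hτdef, hv', show b * (v * t * v⁻¹) * b⁻¹ = b * v * b⁻¹ * (b * t * b⁻¹) * (b * v * b⁻¹)⁻¹ by group,
        hbt.eq, mul_inv_cancel_right]
    suffices e : τ v' = τ v by
      show b * τ v = τ v * b
      nth_rw 2 [← e]
      rw [hτv', inv_mul_cancel_right]
    by_cases hv0 : τ v = t
    · rw [hτv', hv0, hbt.eq, mul_inv_cancel_right]
    set r := v' * v⁻¹ with hr
    have hrC : r ∈ C := mul_mem hv'C (inv_mem hv)
    have hrv : r * v = v' := by rw [hr, inv_mul_cancel_right]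
    suffices hrt : τ r = t by
      rw [← hrv, hcomm2 r hrC v hv, hτm, hrt, ← hτdef]
    set z := ⁅a v, r⁆ with hz
    set c := ⁅v', v⁆ with hc
    have hzZ : ∀ x ∈ neg t, z x = x := by
      have hav : ⁅a v, v⁆ = 1 := by
        rw [commutatorElement_eq_one_iff_commute]
        have h8 := hconja v hv v hv
        rw [hadef (v * v), hτz _ (memZ (mul_mem hv hv) (hsq v hv)), ht.sq, mul_one] at h8
        exact ((mul_inv_eq_iff_eq_mul.mp h8)).symm
      have h9 : ⁅t * v * t, v⁆ = 1 := by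
        have h := haexp v hv v hv
        rw [hav, commutatorElement_self, mul_one] at h
        exact h.symm
      have h10 : ⁅t * v * t, v'⁆ = b * c * b⁻¹ := by
        rw [hc, hv']
        conv_lhs => rw [show t * v * t = t * v * t⁻¹ by rw [et], ← htb]
        simp only [commutatorElement_def]; group
      have e : z = b * c * b⁻¹ * c := by
        rw [hz, haexp v hv r hrC, hr, hR v' hv'C _ (inv_mem hv) _ (htC v hv), hR v' hv'C _ (inv_mem hv) v hv,
          hRi v hv _ (htC v hv), hRi v hv v hv, commutatorElement_self, mul_one, h9, mul_one, h10,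
          hinv v' hv'C v hv]
      have hcc : c ∈ Zc := hbr v' hv'C v hv
      have hsc := ht.scal hqo hexp (hC hcc.1) (fun _ hx => apply_mem_neg (htZ c hcc).symm hx) fun x _ => by
        rw [← MulAut.mul_apply, hself v' hv'C v hv, MulAut.one_apply]
      intro x hx
      have hbi : b⁻¹ (c x) ∈ neg t := apply_mem_neg hbt.inv_left (apply_mem_neg (htZ c hcc).symm hx)
      rw [e, MulAut.mul_apply, MulAut.mul_apply, MulAut.mul_apply]
      rcases hsc with hsc | hsc
      · rw [hsc _ hbi, apply_inv, hsc x hx]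
      · rw [hsc _ hbi, map_inv, apply_inv, hsc x hx, inv_inv]
    have h11 := hconja r hrC v hv
    rw [show r * a v * r⁻¹ = z⁻¹ * a v by rw [hz]; simp only [commutatorElement_def]; group] at h11
    by_contra hrt
    have hrv' : τ (r * v) ≠ t := fun e => hv0 (by
      rw [hrv, hτv'] at e
      calc τ v = b⁻¹ * (b * τ v * b⁻¹) * b := by group
        _ = b⁻¹ * (t * b) := by rw [e, mul_assoc]
        _ = t := by rw [← hbt.eq, inv_mul_cancel_left])
    have hz1 : z⁻¹ (m₀⁻¹) = m₀⁻¹ := by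
      conv_lhs => rw [← hzZ _ (inv_mem hm₀)]
      rw [inv_apply_self]
    have h12 := DFunLike.congr_fun h11 m₀
    rw [hadef, hadef, hadef, MulAut.mul_apply, MulAut.mul_apply, MulAut.mul_apply, MulAut.mul_apply,
      MulAut.mul_apply, hfixP v hv hv0 m₀ hm₀, hfixP _ (mul_mem hrC hv) hrv' m₀ hm₀, mem_neg.mp hm₀, hz1,
      hfixP r hrC hrt _ (inv_mem hm₀), map_inv, mem_neg.mp hm₀, inv_inv] at h12
    exact hm₀1 (eq_one_of_inv hqo hexp h12.symm)
  -- the conclusion
  intro u hu w hw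
  rw [← hτdef u, ← hadef u]
  by_cases hu0 : τ u = t
  · rw [hadef, hu0, ht.sq]; exact Commute.one_left w
  suffices e : w * a u * w⁻¹ = a u from (mul_inv_eq_iff_eq_mul.mp e).symm
  rw [hconja w hw u hu]
  by_cases hw0 : τ w = t
  · rw [hadef w, hw0, ht.sq, one_mul, hadef, hadef, ← hcomm2 u hu w hw, hτm, hw0, ← hτdef]
  by_cases hwu : τ (w * u) = t
  · rw [hadef (w * u), hwu, ht.sq, mul_one, hadef, hadef]
    congr 1
    have h13 : u * τ w * u⁻¹ = t := by rw [← hτm, hcomm2 u hu w hw, hwu]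
    have h14 : τ u⁻¹ = τ u := by
      rw [show u⁻¹ = u * (u * u)⁻¹ by group, hτm, hτz _ (inv_mem (memZ (mul_mem hu hu) (hsq u hu))), ← hτdef]
    rw [← h14, hτdef u⁻¹, ← h13]; group
  exfalso
  set h := u⁻¹ * (b * u * b⁻¹) with hh
  have hhC : h ∈ C := mul_mem (inv_mem hu) (hbC u hu)
  have hh' : (∀ x ∈ neg t, h x = b⁻¹ x) ∨ ∀ x ∈ neg t, h x = (b⁻¹ x)⁻¹ := by
    have hdm : ∀ x ∈ neg t, u (b⁻¹ x) ∈ neg (τ u) := fun x hx => by
      rw [hτdef]; exact mem_neg_conj (apply_mem_neg hbt.inv_left hx)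
    rcases root_scal hqo hexp hb htb ht h1 (hτR u hu) (hτ1 u) (hbτ u hu) (Ne.symm hu0) with hs | hs
    · exact Or.inl fun x hx => by
        rw [hh, MulAut.mul_apply, MulAut.mul_apply, MulAut.mul_apply, hs _ (hdm x hx), inv_apply_self]
    · exact Or.inr fun x hx => by
        rw [hh, MulAut.mul_apply, MulAut.mul_apply, MulAut.mul_apply, hs _ (hdm x hx), map_inv, inv_apply_self]
  have hh2 : ∀ x ∈ neg (τ w), h (h x) = x := by
    have huw : τ (u * w) ≠ t := by rw [hcomm2 u hu w hw]; exact hwu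
    have hs3 := root_scal hqo hexp hb htb ht h1 (hτR _ (mul_mem hu hw)) (hτ1 _) (hbτ _ (mul_mem hu hw)) (Ne.symm huw)
    have hs2 := root_scal hqo hexp hb htb ht h1 (hτR w hw) (hτ1 w) (hbτ w hw) (Ne.symm hw0)
    have hum : ∀ x ∈ neg (τ w), u x ∈ neg (τ (u * w)) := fun x hx => by rw [hτm]; exact mem_neg_conj hx
    have hb2 : (∀ x ∈ neg (τ w), b⁻¹ x = x) ∨ ∀ x ∈ neg (τ w), b⁻¹ x = x⁻¹ := by
      rcases hs2 with hs2 | hs2
      · exact Or.inl fun x hx => by conv_lhs => rw [← hs2 x hx, inv_apply_self]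
      · exact Or.inr fun x hx => by conv_lhs => rw [← inv_inv x, ← hs2 x hx, map_inv, inv_apply_self]
    have h15 : (∀ x ∈ neg (τ w), h x = x) ∨ ∀ x ∈ neg (τ w), h x = x⁻¹ := by
      rcases hb2 with hb2 | hb2 <;> rcases hs3 with hs3 | hs3
      · exact Or.inl fun x hx => by
          rw [hh, MulAut.mul_apply, MulAut.mul_apply, MulAut.mul_apply, hb2 x hx, hs3 _ (hum x hx), inv_apply_self]
      · exact Or.inr fun x hx => by
          rw [hh, MulAut.mul_apply, MulAut.mul_apply, MulAut.mul_apply, hb2 x hx, hs3 _ (hum x hx), map_inv,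
            inv_apply_self]
      · exact Or.inr fun x hx => by
          rw [hh, MulAut.mul_apply, MulAut.mul_apply, MulAut.mul_apply, hb2 x hx, map_inv u, map_inv b,
            hs3 _ (hum x hx), map_inv u⁻¹, inv_apply_self]
      · exact Or.inl fun x hx => by
          rw [hh, MulAut.mul_apply, MulAut.mul_apply, MulAut.mul_apply, hb2 x hx, map_inv u, map_inv b,
            hs3 _ (hum x hx), inv_inv, inv_apply_self]
    rcases h15 with h15 | h15
    · exact fun x hx => by rw [h15 x hx, h15 x hx]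
    · exact fun x hx => by rw [h15 x hx, map_inv, h15 x hx, inv_inv]
  refine hm₀1 (eq_one_of_inv hqo hexp (w.injective ?_))
  have h16 := hh2 (w m₀) (by rw [hτdef]; exact mem_neg_conj hm₀)
  rw [← MulAut.mul_apply, ← MulAut.mul_apply, (hsq h hhC w hw).eq, MulAut.mul_apply, MulAut.mul_apply,
    sq_apply_of_scal hqo hexp hb htb ht hm₀ hh'] at h16
  exact h16.symm

end Cfsg.Agent.GenA.TwoLength
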