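import Cfsg.Agent.GenA.TwoLength.Lower
import Cfsg.Agent.GenA.TwoLength.Planes
import Cfsg.Agent.GenA.ShultGross.TwoCore
import Cfsg.Agent.Solvable.Basics
import Cfsg.Agent.Techniques.Critical
import Cfsg.Agent.Lib.Coprime.PGroup

/-!
An element of order dividing `2 ^ n` without a full block, on a faithful module in characteristic two,
and a class two `2`-group it normalizes, centralizing the abelian normal parts of a normal `q`-group:
the half power is central in the group modulo the centralizer of the `q`-group.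
-/

set_option autoImplicit false

namespace Cfsg.Agent.GenA.TwoLength

open Module (End)
open Cfsg.Agent.PLocal.TheoremB (Normalizes)
open Cfsg.Agent.GenA.ShultGross
open Cfsg.Agent.GenA.ShultGross.Two hiding orbit stage_one abelian_fix lower
open scoped commutatorElement

universe u

variable {K : Type*} [Field K] [CharP K 2] [IsAlgClosed K] {V : Type*} [AddCommGroup V] [Module K V]
  [FiniteDimensional K V]
variable {Γ : Type u} [Group Γ] [Finite Γ]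

/-- The elements preserving a pairing. -/
def presGroup (C : Subgroup Γ) (lam : Γ → Γ → K) : Subgroup Γ where
  carrier := {g | Preserves C lam g}
  one_mem' := Preserves.one
  mul_mem' := fun ha hb => ha.mul hb
  inv_mem' := fun ha => ha.inv

/-- The images of the commutators are trivial. -/
theorem image_comm {G A : Type*} [Group G] [CommGroup A] [Finite A] {F : Form A K} {q : ℕ}
    [Fact q.Prime] (hqo : Odd q) (hexp : ∀ a : A, a ^ q = 1) (φ : G →* MulAut A) (hisom : ∀ g, φ g ∈ F.isom)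
    {b t : G} (htb : b * b = t) (hrefl : Refl F q (φ t)) (C : Subgroup G)
    (hC2 : ∀ g ∈ C, ∃ j : ℕ, g ^ 2 ^ j = 1) (hbC : ∀ d ∈ C, b * d * b⁻¹ ∈ C) (hbC' : ∀ d ∈ C, b⁻¹ * d * b ∈ C)
    (hcen : ∀ a ∈ C, ∀ b ∈ C, ∀ c ∈ C, Commute ⁅a, b⁆ c) (hsq : ∀ a ∈ C, ∀ c ∈ C, Commute (a * a) c) :
    (∀ u ∈ C, ∀ w ∈ C, φ ⁅t * (u * t * u⁻¹), w⁆ = 1) ∧
      ∀ z ∈ C, (∀ w ∈ C, Commute z w) → φ ⁅t, z⁆ = 1 := by
  have htφ : φ b * φ b = φ t := by rw [← map_mul, htb]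
  refine ⟨fun u hu w hw => ?_, fun z hz hzc => ?_⟩
  · have h := central_comm hqo hexp (hisom b) htφ hrefl (C.map φ)
      (by rintro _ ⟨g, -, rfl⟩; exact hisom g)
      (by rintro _ ⟨g, hg, rfl⟩; obtain ⟨j, hj⟩ := hC2 g hg; exact ⟨j, by rw [← map_pow, hj, map_one]⟩)
      (by rintro _ ⟨g, hg, rfl⟩; exact ⟨_, hbC g hg, by rw [map_mul, map_mul, map_inv]⟩)
      (by rintro _ ⟨g, hg, rfl⟩; exact ⟨_, hbC' g hg, by rw [map_mul, map_mul, map_inv]⟩)
      (by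
        rintro _ ⟨a, ha, rfl⟩ _ ⟨c, hc, rfl⟩ _ ⟨e, he, rfl⟩
        rw [← map_commutatorElement]; exact (hcen a ha c hc e he).map φ)
      (by
        rintro _ ⟨a, ha, rfl⟩ _ ⟨c, hc, rfl⟩
        rw [← map_mul]; exact (hsq a ha c hc).map φ)
      (φ u) ⟨u, hu, rfl⟩ (φ w) ⟨w, hw, rfl⟩
    rw [map_commutatorElement, commutatorElement_eq_one_iff_commute, map_mul, map_mul, map_mul, map_inv]
    exact h
  · have h := abelian_commute hqo hexp (hisom b) htφ hrefl ((C ⊓ Subgroup.centralizer (C : Set G)).map φ)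
      (by rintro _ ⟨g, -, rfl⟩; exact hisom g)
      (by
        rintro _ ⟨a, ha, rfl⟩ _ ⟨c, hc, rfl⟩
        exact Commute.map (show Commute a c from (Subgroup.mem_centralizer_iff.mp ha.2 c hc.1).symm) φ)
      (by rintro _ ⟨g, hg, rfl⟩; obtain ⟨j, hj⟩ := hC2 g hg.1; exact ⟨j, by rw [← map_pow, hj, map_one]⟩)
      (by
        rintro _ ⟨g, hg, rfl⟩
        refine ⟨_, ⟨hbC g hg.1, Subgroup.mem_centralizer_iff.mpr fun c hc => ?_⟩, by rw [map_mul, map_mul, map_inv]⟩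
        calc c * (b * g * b⁻¹) = b * (b⁻¹ * c * b * g) * b⁻¹ := by group
          _ = b * (g * (b⁻¹ * c * b)) * b⁻¹ := by rw [Subgroup.mem_centralizer_iff.mp hg.2 _ (hbC' c hc)]
          _ = _ := by group)
      (φ z) ⟨z, ⟨hz, Subgroup.mem_centralizer_iff.mpr fun c hc => (hzc c hc).eq.symm⟩, rfl⟩
    rw [map_commutatorElement, commutatorElement_eq_one_iff_commute]
    exact h

set_option maxHeartbeats 1600000 in
/-- On the quotient of one pairing. -/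
theorem local_fix {q : ℕ} [hqf : Fact q.Prime] (hqo : Odd q) (hqK : (q : K) ≠ 0) (ρ : Γ →* End K V) (x : Γ) {n : ℕ}
    (hn : 2 ≤ n) (hxP : x ^ 2 ^ n = 1) (hsum : ∀ v : V, ∑ i ∈ Finset.range (2 ^ n), (ρ x ^ i) v = 0)
    (C : Subgroup Γ) (hC2 : IsPGroup 2 C) (hxC : Normalizes x C)
    (hcen : ∀ a ∈ C, ∀ b ∈ C, ∀ c ∈ C, Commute ⁅a, b⁆ c) (hsq : ∀ a ∈ C, ∀ c ∈ C, Commute (a * a) c)
    {Cq : Subgroup Γ} [hCqn : Cq.Normal] (hCqq : IsPGroup q Cq) {lam : Γ → Γ → K} (h : Pairing ρ Cq lam)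
    (hcomR0 : ∀ a ∈ Cq, ∀ c ∈ Cq, ⁅a, c⁆ ∈ radSub h) (hpowR : ∀ a ∈ Cq, a ^ q ∈ radSub h)
    (hCp : ∀ g ∈ C, Preserves Cq lam g) (htp : Preserves Cq lam (x ^ 2 ^ (n - 1))) (d : Γ)
    (hd : (∃ u ∈ C, ∃ w ∈ C, d = ⁅x ^ 2 ^ (n - 1) * (u * x ^ 2 ^ (n - 1) * u⁻¹), w⁆) ∨
      ∃ z ∈ C, (∀ w ∈ C, Commute z w) ∧ d = ⁅x ^ 2 ^ (n - 1), z⁆) :
    ∀ a ∈ Cq, a⁻¹ * (d * a * d⁻¹) ∈ radSub h := by
  classical
  set t := x ^ 2 ^ (n - 1) with ht
  set b := x ^ 2 ^ (n - 2) with hb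
  have htb : b * b = t := by rw [hb, ht, ← pow_add, ← two_mul, ← pow_succ', show n - 2 + 1 = n - 1 by omega]
  have ht2 : t * t = 1 := by rw [ht, ← pow_add, ← two_mul, ← pow_succ', Nat.sub_add_cancel (by omega : 1 ≤ n), hxP]
  have et : t⁻¹ = t := (eq_inv_of_mul_eq_one_left ht2).symm
  have hCn : ∀ (i : ℕ), Normalizes (x ^ i) C := fun i => hxC.pow i
  have hCinv : ∀ d ∈ C, b⁻¹ * d * b ∈ C := fun d hd => by
    have h1 := hCn (2 ^ (n - 2) * (orderOf b - 1)) d hd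
    rw [pow_mul, ← hb, show b ^ (orderOf b - 1) = b⁻¹ from (inv_eq_of_mul_eq_one_left (by
      rw [← pow_succ, Nat.sub_add_cancel (orderOf_pos b), pow_orderOf_eq_one])).symm, inv_inv] at h1
    exact h1
  have htC : ∀ d ∈ C, t * d * t ∈ C := fun d hd => by
    have := hCn (2 ^ (n - 1)) d hd
    rwa [← ht, et] at this
  set Γ1 := presGroup Cq lam with hΓ1
  have hCΓ : ∀ g ∈ C, g ∈ Γ1 := fun g hg => hCp g hg
  have htΓ : t ∈ Γ1 := htp
  have hxCq : Normalizes x Cq := fun a ha => hCqn.conj_mem a ha x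
  -- the quotient
  set R := (radSub h).subgroupOf Cq with hR
  have hRmem : ∀ a : Cq, a ∈ R ↔ (a : Γ) ∈ radSub h := fun a => Subgroup.mem_subgroupOf
  have hcomR : ∀ a c : Cq, a⁻¹ * c⁻¹ * (a * c) ∈ R := fun a c => (hRmem _).mpr ((by
    have h1 := hcomR0 _ (inv_mem a.2) _ (inv_mem c.2)
    simp only [commutatorElement_def, inv_inv] at h1
    simpa [mul_assoc] using h1))
  haveI : R.Normal := ⟨fun a ha g => by
    have h1 := hcomR g⁻¹ a⁻¹
    rw [inv_inv, inv_inv] at h1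
    have h2 : g * a * (g⁻¹ * a⁻¹) ∈ R := h1
    have h3 := mul_mem h2 ha
    rwa [mul_assoc (g * a), mul_assoc g⁻¹, inv_mul_cancel, mul_one] at h3⟩
  letI : CommGroup (Cq ⧸ R) := { (inferInstance : Group (Cq ⧸ R)) with
    mul_comm := fun a c => by
      obtain ⟨a, rfl⟩ := QuotientGroup.mk'_surjective R a
      obtain ⟨c, rfl⟩ := QuotientGroup.mk'_surjective R c
      rw [← map_mul, ← map_mul]
      refine QuotientGroup.eq.mpr ?_
      rw [show (a * c)⁻¹ * (c * a) = c⁻¹ * a⁻¹ * (c * a) by group]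
      exact hcomR c a }
  set π := QuotientGroup.mk' R with hπ
  have hexp : ∀ a : Cq ⧸ R, a ^ q = 1 := fun a => by
    obtain ⟨a, rfl⟩ := QuotientGroup.mk'_surjective R a
    rw [← map_pow]
    exact (QuotientGroup.eq_one_iff _).mpr ((hRmem _).mpr (hpowR _ a.2))
  obtain ⟨φ, hφ⟩ : ∃ φ : Γ1 →* MulAut (Cq ⧸ R),
      ∀ (γ : Γ1) (a : Cq), φ γ (π a) = π (MulAut.conjNormal (γ : Γ) a) := by
    refine ⟨MonoidHom.mk' (fun γ => QuotientGroup.congr R R (MulAut.conjNormal (γ : Γ)) (by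
      ext a
      constructor
      · rintro ⟨c, hc, rfl⟩
        exact (hRmem _).mpr (γ.2.conj_radSub ((hRmem _).mp hc))
      · intro ha
        refine ⟨(MulAut.conjNormal (γ : Γ)).symm a, (hRmem _).mpr ?_, (MulAut.conjNormal (γ : Γ)).apply_symm_apply a⟩
        have h1 := Preserves.conj_radSub (γ⁻¹ : Γ1).2 ((hRmem _).mp ha)
        rw [MulAut.conjNormal_symm_apply]
        simpa using h1)) fun a c => MulEquiv.ext fun z => by
      obtain ⟨z, rfl⟩ := QuotientGroup.mk'_surjective R z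
      show QuotientGroup.mk' R (MulAut.conjNormal ((a * c : Γ1) : Γ) z) =
        QuotientGroup.mk' R (MulAut.conjNormal (a : Γ) (MulAut.conjNormal (c : Γ) z))
      rw [Subgroup.coe_mul, map_mul]; rfl, fun γ a => rfl⟩
  intro a ha
  -- it suffices that the image of `d` is trivial
  suffices H : ∀ hdΓ : d ∈ Γ1, φ ⟨d, hdΓ⟩ = 1 by
    have hdΓ : d ∈ Γ1 := by
      rcases hd with ⟨u, hu, w, hw, rfl⟩ | ⟨z, hz, -, rfl⟩
      · have h1 : t * (u * t * u⁻¹) ∈ Γ1 := mul_mem htΓ (mul_mem (mul_mem (hCΓ u hu) htΓ) (inv_mem (hCΓ u hu)))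
        exact mul_mem (mul_mem (mul_mem h1 (hCΓ w hw)) (inv_mem h1)) (inv_mem (hCΓ w hw))
      · exact mul_mem (mul_mem (mul_mem htΓ (hCΓ z hz)) (inv_mem htΓ)) (inv_mem (hCΓ z hz))
    have h1 := DFunLike.congr_fun (H hdΓ) (π ⟨a, ha⟩)
    rw [hφ, MulAut.one_apply] at h1
    have h2 := (hRmem _).mp (QuotientGroup.eq.mp h1.symm)
    simpa [MulAut.conjNormal_apply] using h2
  intro hdΓ
  by_cases hle : antiSub h t (hxCq.pow _) ≤ radSub h
  · -- the half power is trivial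
    have htriv : φ ⟨t, htΓ⟩ = 1 := MulEquiv.ext fun c => by
      obtain ⟨c, rfl⟩ := QuotientGroup.mk'_surjective R c
      rw [MulAut.one_apply, hφ]
      refine (QuotientGroup.eq.mpr ((hRmem _).mpr ?_)).symm
      have h1 := hle (comm_mem_anti (h := h) (ht := hxCq.pow _) (htp) ht2 c.2)
      rw [Subgroup.coe_mul, Subgroup.coe_inv, MulAut.conjNormal_apply]
      exact h1
    rcases hd with ⟨u, hu, w, hw, rfl⟩ | ⟨z, hz, -, rfl⟩
    · rw [show (⟨_, hdΓ⟩ : Γ1) = ⁅⟨t, htΓ⟩ * (⟨u, hCΓ u hu⟩ * ⟨t, htΓ⟩ * (⟨u, hCΓ u hu⟩ : Γ1)⁻¹), (⟨w, hCΓ w hw⟩ : Γ1)⁆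
        from rfl, map_commutatorElement, map_mul, map_mul, map_mul, map_inv, htriv]
      simp
    · rw [show (⟨_, hdΓ⟩ : Γ1) = ⁅(⟨t, htΓ⟩ : Γ1), ⟨z, hCΓ z hz⟩⁆ from rfl, map_commutatorElement, htriv]
      simp
  obtain ⟨k, hkn, hqP, hidx, hkpres⟩ := lower hqo hqK (hCqq) hxCq hxP (show 1 ≤ n by omega) hsum h hle
  have hk2 : k ≤ n - 2 := by
    by_contra hk2
    rw [show n - k = 1 by omega, pow_one] at hqP
    have := hqf.out.two_le
    omega
  have hbΓ : b ∈ Γ1 := hkpres _ hk2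
  -- the form
  have hresp : ∀ a a' c c' : Cq, a⁻¹ * a' ∈ R → c⁻¹ * c' ∈ R → lam a c = lam a' c' := by
    intro a a' c c' ha hc
    have e1 := not_mem_rad_of_twist (h := h) a.2 a'.2 (show (a : Γ)⁻¹ * a' ∈ radSub h from (hRmem _).mp ha)
    have e2 := not_mem_rad_of_twist (h := h) c.2 c'.2 (show (c : Γ)⁻¹ * c' ∈ radSub h from (hRmem _).mp hc)
    rw [e1 _ c'.2]
    have s1 := h.swap a.2 c.2
    have s2 := h.swap a.2 c'.2
    rw [e2 _ a.2] at s2
    exact mul_right_cancel₀ (h.ne_zero c.2 a.2) (s1.trans s2.symm)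
  obtain ⟨F, hF⟩ : ∃ F : Form (Cq ⧸ R) K, ∀ a c : Cq, F.lam (π a) (π c) = lam (a : Γ) c := by
    refine ⟨{
      lam := fun A B => Quotient.liftOn₂' A B (fun a c => lam (a : Γ) c)
        fun a c a' c' ha hc => hresp a a' c c' (QuotientGroup.leftRel_apply.mp ha)
          (QuotientGroup.leftRel_apply.mp hc)
      mul_left := fun A B D => by
        obtain ⟨a, rfl⟩ := QuotientGroup.mk'_surjective R A
        obtain ⟨c, rfl⟩ := QuotientGroup.mk'_surjective R B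
        obtain ⟨e, rfl⟩ := QuotientGroup.mk'_surjective R D
        exact h.mul_left a.2 c.2 e.2
      mul_right := fun A B D => by
        obtain ⟨a, rfl⟩ := QuotientGroup.mk'_surjective R A
        obtain ⟨c, rfl⟩ := QuotientGroup.mk'_surjective R B
        obtain ⟨e, rfl⟩ := QuotientGroup.mk'_surjective R D
        exact h.mul_right a.2 c.2 e.2
      alt := fun A => by
        obtain ⟨a, rfl⟩ := QuotientGroup.mk'_surjective R A
        exact h.sq_eq_one hqo (hCqq) a.2 a.2 (h.swap a.2 a.2)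
      sq := fun A B e => by
        obtain ⟨a, rfl⟩ := QuotientGroup.mk'_surjective R A
        obtain ⟨c, rfl⟩ := QuotientGroup.mk'_surjective R B
        exact h.sq_eq_one hqo (hCqq) a.2 c.2 e
      nondeg := fun A e => by
        obtain ⟨a, rfl⟩ := QuotientGroup.mk'_surjective R A
        exact (QuotientGroup.eq_one_iff a).mpr ((hRmem a).mpr ⟨a.2, fun c hc => e (π ⟨c, hc⟩)⟩) },
      fun a c => rfl⟩
  have hisom : ∀ γ : Γ1, φ γ ∈ F.isom := fun γ A B => by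
    obtain ⟨a, rfl⟩ := QuotientGroup.mk'_surjective R A
    obtain ⟨c, rfl⟩ := QuotientGroup.mk'_surjective R B
    rw [hφ, hφ, hF, hF, MulAut.conjNormal_apply, MulAut.conjNormal_apply]
    exact γ.2.2 a a.2 c c.2
  have hrefl : Refl F q (φ ⟨t, htΓ⟩) := by
    refine ⟨hisom _, by rw [← map_mul, show (⟨t, htΓ⟩ : Γ1) * ⟨t, htΓ⟩ = 1 from Subtype.ext ht2, map_one], ?_⟩
    have hle2 : neg (φ ⟨t, htΓ⟩) ≤ ((antiSub h t (hxCq.pow _)).subgroupOf Cq).map π := by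
      intro A hA
      obtain ⟨a, rfl⟩ := QuotientGroup.mk'_surjective R A
      refine ⟨a, ⟨a.2, fun c hc => ?_⟩, rfl⟩
      have h1 : π (MulAut.conjNormal t a) = π a⁻¹ := by rw [map_inv, ← hφ ⟨t, htΓ⟩ a]; exact hA
      have h2 := hresp (MulAut.conjNormal t a) a⁻¹ ⟨c, hc⟩ ⟨c, hc⟩ (QuotientGroup.eq.mp h1) (by simp)
      rw [MulAut.conjNormal_apply] at h2
      show lam (t * (a : Γ) * t⁻¹) c * lam (a : Γ) c = 1
      rw [h2, Subgroup.coe_inv]
      exact h.inv_left a.2 hc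
    refine (Subgroup.card_le_of_le hle2).trans (le_of_eq ?_)
    rw [← Subgroup.relIndex_ker, hπ, QuotientGroup.ker_mk', hR, Subgroup.relIndex_subgroupOf (fun g (hg : g ∈ antiSub h t (hxCq.pow _)) => hg.1), hidx, sq]
  have hsub : ∀ {g}, g ∈ C.subgroupOf Γ1 → (g : Γ) ∈ C := fun hg => Subgroup.mem_subgroupOf.mp hg
  obtain ⟨hA, hB⟩ := image_comm hqo hexp φ hisom (b := (⟨b, hbΓ⟩ : Γ1)) (t := ⟨t, htΓ⟩) (Subtype.ext htb)
    hrefl (C.subgroupOf Γ1)
    (fun g hg => by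
      obtain ⟨j, hj⟩ := hC2 ⟨g, hsub hg⟩
      exact ⟨j, Subtype.ext (by simpa using congrArg Subtype.val hj)⟩)
    (fun g hg => hCn _ g (hsub hg)) (fun g hg => hCinv g (hsub hg))
    (fun a ha c hc e he => Subtype.ext (hcen _ (hsub ha) _ (hsub hc) _ (hsub he)).eq)
    (fun a ha e he => Subtype.ext (hsq _ (hsub ha) _ (hsub he)).eq)
  rcases hd with ⟨u, hu, w, hw, rfl⟩ | ⟨z, hz, hzc, rfl⟩
  · exact hA ⟨u, hCΓ u hu⟩ hu ⟨w, hCΓ w hw⟩ hw
  · exact hB ⟨z, hCΓ z hz⟩ hz fun v hv => Subtype.ext (hzc v (hsub hv)).eq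

set_option maxHeartbeats 1600000 in
theorem key {q : ℕ} [hqf : Fact q.Prime] (hqo : Odd q) (hqK : (q : K) ≠ 0) (ρ : Γ →* End K V)
    (hinj : Function.Injective ρ) (Q : Subgroup Γ) [Q.Normal] (hQ : IsPGroup q Q) (x : Γ) {n : ℕ}
    (hn : 2 ≤ n) (hxP : x ^ 2 ^ n = 1) (hsum : ∀ v : V, ∑ i ∈ Finset.range (2 ^ n), (ρ x ^ i) v = 0)
    (C : Subgroup Γ) (hC2 : IsPGroup 2 C) (hxC : Normalizes x C)
    (hcen : ∀ a ∈ C, ∀ b ∈ C, ∀ c ∈ C, Commute ⁅a, b⁆ c) (hsq : ∀ a ∈ C, ∀ c ∈ C, Commute (a * a) c)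
    (hCA : ∀ A : Subgroup Γ, A.Normal → IsPGroup q A → (∀ a ∈ A, ∀ b ∈ A, Commute a b) →
      C ≤ Subgroup.centralizer (A : Set Γ)) :
    (∀ u ∈ C, ∀ w ∈ C, ⁅x ^ 2 ^ (n - 1) * (u * x ^ 2 ^ (n - 1) * u⁻¹), w⁆ ∈ Subgroup.centralizer (Q : Set Γ)) ∧
      ∀ z ∈ C, (∀ w ∈ C, Commute z w) → ⁅x ^ 2 ^ (n - 1), z⁆ ∈ Subgroup.centralizer (Q : Set Γ) := by
  classical
  set t := x ^ 2 ^ (n - 1) with ht
  set b := x ^ 2 ^ (n - 2) with hb
  have htb : b * b = t := by rw [hb, ht, ← pow_add, ← two_mul, ← pow_succ', show n - 2 + 1 = n - 1 by omega]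
  have ht2 : t * t = 1 := by rw [ht, ← pow_add, ← two_mul, ← pow_succ', Nat.sub_add_cancel (by omega : 1 ≤ n), hxP]
  have et : t⁻¹ = t := (eq_inv_of_mul_eq_one_left ht2).symm
  -- a critical subgroup
  obtain ⟨C0, hC0c, hC0Φ, hC0com, hC0C⟩ := Techniques.Critical.exists_critical hQ
  haveI := hC0c
  set Cq : Subgroup Γ := C0.map Q.subtype with hCq
  haveI hCqn : Cq.Normal := by rw [hCq]; infer_instance
  have hCqQ : Cq ≤ Q := Subgroup.map_subtype_le _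
  have hCmem : ∀ {a : Γ} (ha : a ∈ Q), a ∈ Cq ↔ (⟨a, ha⟩ : Q) ∈ C0 := fun {a} ha => by
    refine ⟨fun ⟨b, hb, e⟩ => ?_, fun h => ⟨_, h, rfl⟩⟩
    rwa [show (⟨a, ha⟩ : Q) = b from Subtype.ext e.symm]
  have hcent : ∀ {a : Q}, a ∈ Subgroup.centralizer (C0 : Set Q) → (a : Γ) ∈ Subgroup.centralizer (Cq : Set Γ) := by
    intro a ha
    refine Subgroup.mem_centralizer_iff.mpr ?_
    rintro _ ⟨b, hb, rfl⟩
    exact congrArg Subtype.val (Subgroup.mem_centralizer_iff.mp ha b hb)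
  set Z : Subgroup Γ := Cq ⊓ Subgroup.centralizer (Cq : Set Γ) with hZ
  haveI hZn : Z.Normal := inferInstance
  have hcomZ : ∀ a ∈ Cq, ∀ b ∈ Cq, ⁅a, b⁆ ∈ Z := by
    rintro _ ⟨a, ha, rfl⟩ _ ⟨b, -, rfl⟩
    have h1 := hC0com (Subgroup.commutator_mem_commutator ha (Subgroup.mem_top b))
    rw [← map_commutatorElement]
    exact ⟨⟨_, h1.1, rfl⟩, hcent h1.2⟩
  have hpowZ : ∀ a ∈ Cq, a ^ q ∈ Z := by
    rintro _ ⟨a, ha, rfl⟩
    refine ⟨pow_mem (Subgroup.mem_map_of_mem _ ha) q, ?_⟩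
    have h1 : (⟨a, ha⟩ : C0) ^ q ∈ frattini C0 := Solvable.Basics.pow_mem_frattini (hQ.to_subgroup C0) _
    rw [← map_pow]
    exact hcent (a := a ^ q) (hC0Φ ⟨_, h1, by simp⟩)
  have hZcomm : ∀ a ∈ Z, ∀ c ∈ Cq, Commute a c := fun a ha c hc =>
    (Subgroup.mem_centralizer_iff.mp ha.2 c hc).symm
  have hZq : IsPGroup q Z := hQ.to_le (inf_le_left.trans hCqQ)
  have hZab : ∀ a ∈ Z, ∀ c ∈ Z, Commute a c := fun a ha c hc => hZcomm a ha c hc.1
  -- the centralizer of `Z`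
  set CZ : Subgroup Γ := Subgroup.centralizer (Z : Set Γ) with hCZ
  have hCCZ : C ≤ CZ := hCA Z hZn hZq hZab
  have htCZ : t ∈ CZ := Subgroup.mem_centralizer_iff.mpr fun z hz => by
    have h1 := abelian_fix ρ Z x (show 1 ≤ n by omega) hqK hZq (fun a ha => hZn.conj_mem a ha x)
      (fun a ha c hc => (hZab a ha c hc).map ρ) hxP hsum hz
    exact (mul_inv_eq_iff_eq_mul.mp (hinj h1)).symm
  have hcommρ : ∀ a ∈ Cq, ∀ b ∈ Cq, ∀ d ∈ Cq, Commute (ρ ⁅a, b⁆) (ρ d) := fun a ha b hb d hd =>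
    (hZcomm _ (hcomZ a ha b hb) d hd).map ρ
  have hCn : ∀ (i : ℕ), Normalizes (x ^ i) C := fun i => hxC.pow i
  have hCinv : ∀ d ∈ C, b⁻¹ * d * b ∈ C := fun d hd => by
    have h1 := hCn (2 ^ (n - 2) * (orderOf b - 1)) d hd
    rw [pow_mul, ← hb, show b ^ (orderOf b - 1) = b⁻¹ from (inv_eq_of_mul_eq_one_left (by
      rw [← pow_succ, Nat.sub_add_cancel (orderOf_pos b), pow_orderOf_eq_one])).symm, inv_inv] at h1
    exact h1
  have htC : ∀ d ∈ C, t * d * t ∈ C := fun d hd => by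
    have := hCn (2 ^ (n - 1)) d hd
    rwa [← ht, et] at this
  -- the action on one quotient
  have hlocal : ∀ (lam : Γ → Γ → K) (h : Pairing ρ Cq lam) (d : Γ),
      ((∃ u ∈ C, ∃ w ∈ C, d = ⁅t * (u * t * u⁻¹), w⁆) ∨ ∃ z ∈ C, (∀ w ∈ C, Commute z w) ∧ d = ⁅t, z⁆) →
      ∀ a ∈ Cq, a⁻¹ * (d * a * d⁻¹) ∈ radSub h := by
    intro lam h
    have hZrad : ∀ z ∈ Z, z ∈ radSub h := fun z hz => ⟨hz.1, fun d hd => h.eq_scalar hz.1 hd fun w _ => by
      rw [commutatorElement_eq_one_iff_commute.mpr (hZcomm z hz d hd), map_one, Module.End.one_apply, one_smul]⟩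
    have hpres : ∀ g ∈ CZ, Preserves Cq lam g := fun g hg =>
      ⟨fun a ha => hCqn.conj_mem a ha g, fun a ha d hd =>
        h.eq_scalar (hCqn.conj_mem a ha g) (hCqn.conj_mem d hd g) fun w hw => by
          rw [show ⁅g * a * g⁻¹, g * d * g⁻¹⁆ = g * ⁅a, d⁆ * g⁻¹ by simp only [commutatorElement_def]; group,
            ← Subgroup.mem_centralizer_iff.mp hg _ (hcomZ a ha d hd), mul_inv_cancel_right, mem_pairSpace hw ha hd]⟩
    exact local_fix hqo hqK ρ x hn hxP hsum C hC2 hxC hcen hsq (hQ.to_le hCqQ) h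
      (fun a ha c hc => hZrad _ (hcomZ a ha c hc)) (fun a ha => hZrad _ (hpowZ a ha))
      (fun g hg => hpres g (hCCZ hg)) (hpres t htCZ)
  -- from the quotients to `Q`
  have hfinish : ∀ d ∈ C, d ∈ CZ →
      (∀ (lam : Γ → Γ → K) (h : Pairing ρ Cq lam), ∀ a ∈ Cq, a⁻¹ * (d * a * d⁻¹) ∈ radSub h) →
      d ∈ Subgroup.centralizer (Q : Set Γ) := by
    intro d hdC hdZ hall
    have hd1 : ∀ a ∈ Cq, a⁻¹ * (d * a * d⁻¹) ∈ Z := by
      intro a ha
      set c := a⁻¹ * (d * a * d⁻¹) with hc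
      have hcC : c ∈ Cq := mul_mem (inv_mem ha) (hCqn.conj_mem a ha d)
      refine ⟨hcC, Subgroup.mem_centralizer_iff.mpr fun e he => (commutatorElement_eq_one_iff_commute.mp ?_).symm⟩
      obtain ⟨k, hk⟩ := hQ ⟨_, hCqQ (hcomZ c hcC e he).1⟩
      refine hinj ?_
      rw [map_one]
      refine eq_one_of_joint (fun p : Cq × Cq => ρ ⁅(p.1 : Γ), (p.2 : Γ)⁆)
        (fun p p' => hcommρ _ p.1.2 _ p.2.2 _ (hcomZ _ p'.1.2 _ p'.2.2).1) _
        (fun p => hcommρ _ hcC _ he _ (hcomZ _ p.1.2 _ p.2.2).1) (N := q ^ k)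
        (by rw [Nat.cast_pow]; exact pow_ne_zero k hqK)
        (by rw [← map_pow, show ⁅c, e⁆ ^ q ^ k = 1 by simpa using congrArg Subtype.val hk, map_one])
        fun χ w hw => ?_
      by_cases hW : eigs (fun p : Cq × Cq => ρ ⁅(p.1 : Γ), (p.2 : Γ)⁆) χ = ⊥
      · rw [hW, Submodule.mem_bot] at hw
        rw [hw, map_zero]
      let lam : Γ → Γ → K := fun a d => if hac : a ∈ Cq ∧ d ∈ Cq then χ (⟨a, hac.1⟩, ⟨d, hac.2⟩) else 1
      have heq : pairSpace ρ Cq lam = eigs (fun p : Cq × Cq => ρ ⁅(p.1 : Γ), (p.2 : Γ)⁆) χ := by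
        unfold pairSpace
        congr 1
        funext p
        simp [lam, p.1.2, p.2.2]
      have hP : Pairing ρ Cq lam := ⟨hcommρ, heq ▸ hW⟩
      rw [mem_pairSpace (heq ▸ hw : w ∈ pairSpace ρ Cq lam) hcC he, (hall lam hP a ha).2 e he, one_smul]
    set E := Subgroup.zpowers d with hE
    have hEC : E ≤ C := Subgroup.zpowers_le.mpr hdC
    have h2q : (2 : ℕ) ≠ q := by rintro rfl; exact absurd hqo (by decide)
    have hcopE : ∀ P : Subgroup Γ, IsPGroup q P → (Nat.card E).Coprime (Nat.card P) := fun P hP => by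
      obtain ⟨m, hm⟩ := (hC2.to_le hEC).exists_card_eq
      obtain ⟨m', hm'⟩ := hP.exists_card_eq
      rw [hm, hm']
      exact ((Nat.coprime_primes Nat.prime_two hqf.out).mpr h2q).pow _ _
    have hECq : E ≤ Subgroup.centralizer (Cq : Set Γ) := by
      refine Coprime.le_centralizer_of_series Subgroup.le_normalizer_of_normal (hcopE Cq (hQ.to_le hCqQ))
        (Or.inl (Coprime.isSolvable_of_isMulCommutative E)) (N := Z)
        (Subgroup.zpowers_le.mpr hdZ) (Subgroup.commutator_le.mpr fun a ha e he => ?_)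
      let st : Subgroup Γ :=
        { carrier := {e | ∀ a ∈ Cq, a⁻¹ * (e * a * e⁻¹) ∈ Z}
          one_mem' := fun a _ => by simp
          mul_mem' := fun {e f} he hf a ha => by
            have h1 := he _ (hCqn.conj_mem a ha f)
            have h2 := mul_mem (hf a ha) h1
            rwa [show a⁻¹ * (f * a * f⁻¹) * ((f * a * f⁻¹)⁻¹ * (e * (f * a * f⁻¹) * e⁻¹)) =
              a⁻¹ * (e * f * a * (e * f)⁻¹) by group] at h2
          inv_mem' := fun {e} he a ha => by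
            have h1 := inv_mem (he _ (hCqn.conj_mem a ha e⁻¹))
            rw [show (e⁻¹ * a * e⁻¹⁻¹)⁻¹ * (e * (e⁻¹ * a * e⁻¹⁻¹) * e⁻¹) = (e⁻¹ * a * e)⁻¹ * a by group,
              mul_inv_rev, inv_inv] at h1
            simpa using h1 }
      have h1 := (Subgroup.zpowers_le.mpr (show d ∈ st from hd1) : E ≤ st) he a ha
      rw [show ⁅a, e⁆ = a * (a⁻¹ * (e * a * e⁻¹))⁻¹ * a⁻¹ by simp only [commutatorElement_def]; group]
      exact hZn.conj_mem _ (inv_mem h1) a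
    refine Coprime.le_centralizer_of_pxq (p := q) (P := Cq) (hQ.to_le hCqQ) ?_ hQ (Subgroup.le_centralizer_iff.mp hECq)
      Subgroup.le_normalizer_of_normal Subgroup.le_normalizer_of_normal ?_ (Subgroup.mem_zpowers d)
    · obtain ⟨m, hm⟩ := (hC2.to_le hEC).exists_card_eq
      rw [hm]
      exact ((Nat.coprime_primes Nat.prime_two hqf.out).mpr h2q).pow_left _
    · rintro a ⟨haQ, haC⟩
      have h1 : (⟨a, haQ⟩ : Q) ∈ C0 := hC0C (Subgroup.mem_centralizer_iff.mpr fun b hb =>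
        Subtype.ext (Subgroup.mem_centralizer_iff.mp haC b (Subgroup.mem_map_of_mem _ hb)))
      exact Subgroup.le_centralizer_iff.mp hECq ((hCmem haQ).mpr h1)
  refine ⟨fun u hu w hw => ?_, fun z hz hzc => ?_⟩
  · have haC : t * (u * t * u⁻¹) ∈ C := by
      rw [show t * (u * t * u⁻¹) = t * u * t * u⁻¹ by group]; exact mul_mem (htC u hu) (inv_mem hu)
    have hd : ⁅t * (u * t * u⁻¹), w⁆ ∈ C := mul_mem (mul_mem (mul_mem haC hw) (inv_mem haC)) (inv_mem hw)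
    exact hfinish _ hd (hCCZ hd) fun lam h => hlocal lam h _ (Or.inl ⟨u, hu, w, hw, rfl⟩)
  · have hd : ⁅t, z⁆ ∈ C := by
      rw [commutatorElement_def, et]; exact mul_mem (htC z hz) (inv_mem hz)
    exact hfinish _ hd (hCCZ hd) fun lam h => hlocal lam h _ (Or.inr ⟨z, hz, hzc, rfl⟩)

end Cfsg.Agent.GenA.TwoLength
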