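import Cfsg.Agent.GenA.ShultGross.Scalar
import Cfsg.Agent.Lib.PLocal.TheoremB.Jordan

/-!
A group acting with central elements scalar, normalized by an operator of `2`-power order without a
full block, acting semi-regularly modulo the scalars: the degree is one less than that order.
-/

set_option autoImplicit false

namespace Cfsg.Agent.GenA.TwoLength

open Module (End finrank)
open Cfsg.Agent.PLocal.TheoremB (QIrred schur density trP single_block geom_sum_eq_pow)
open Cfsg.Agent.GenA.ShultGross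
open scoped commutatorElement

variable {K : Type*} [Field K] [CharP K 2] {W : Type*} [AddCommGroup W] [Module K W]
variable {H : Type*} [Group H]

/-- A fixed point free permutation of a finite set with free powers: traces reach every invariant function. -/
theorem exists_trace {ι : Type*} [Fintype ι] [DecidableEq ι] {U : Type*} [AddCommGroup U] [Module K U]
    {P : ℕ} (hP : 0 < P) {T Ti : End K U} (hTTi : T * Ti = 1) (e : ι → End K U) (hli : LinearIndependent K e)
    (π : Equiv.Perm ι) (i₀ : ι) (hfix : π i₀ = i₀) (hi₀ : e i₀ = 1) (hπP : π ^ P = 1)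
    (hfree : ∀ i, i ≠ i₀ → ∀ k : ℕ, (π ^ k) i = i → P ∣ k) (s : ι → K)
    (hs : ∀ i, T * e i = s i • (e (π i) * T)) (hspan : ⊤ ≤ Submodule.span K (Set.range e))
    (f : End K U) (hf : Commute T f) :
    ∃ (c : K) (φ : End K U), f = c • 1 + ∑ i ∈ Finset.range P, T ^ i * φ * Ti ^ i := by
  classical
  let bU := Module.Basis.mk hli hspan
  have hbU : ∀ a, bU a = e a := fun a => Module.Basis.mk_apply hli hspan a
  have hconj : ∀ a, T * e a * Ti = s a • e (π a) := fun a => by
    rw [hs, smul_mul_assoc, mul_assoc, hTTi, mul_one]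
  have hcomb : ∀ g : ι → K, T * (∑ a, g a • e a) * Ti = ∑ a, (g (π.symm a) * s (π.symm a)) • e a := by
    intro g
    rw [Finset.mul_sum, Finset.sum_mul]
    refine Fintype.sum_equiv π _ _ fun a => ?_
    rw [mul_smul_comm, smul_mul_assoc, hconj, smul_smul, Equiv.symm_apply_apply]
  obtain ⟨F, hF⟩ : ∃ F : ι → K, f = ∑ a, F a • e a :=
    ⟨fun a => bU.repr f a, by conv_lhs => rw [← bU.sum_repr f]; simp only [hbU]⟩
  -- the coefficients of an element of the commutant
  have hFs : ∀ a, F (π a) = F a * s a := by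
    have h1 : T * f * Ti = f := by rw [hf.eq, mul_assoc, hTTi, mul_one]
    rw [hF, hcomb] at h1
    intro a
    have h2 := hli.eq_coords_of_eq h1 (π a)
    simp only [Equiv.symm_apply_apply] at h2
    exact h2.symm
  let rep : ι → ι := fun a => (Quotient.mk (Equiv.Perm.SameCycle.setoid π) a).out
  have hrep : ∀ a, π.SameCycle (rep a) a := fun a =>
    @Quotient.exact _ (Equiv.Perm.SameCycle.setoid π) _ _ (Quotient.out_eq (Quotient.mk (Equiv.Perm.SameCycle.setoid π) a))
  have hrep' : ∀ a (i : ℕ), rep ((π ^ i) a) = rep a := fun a i => by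
    refine congrArg Quotient.out (Quotient.sound ?_)
    show π.SameCycle ((π ^ i) a) a
    exact (Equiv.Perm.sameCycle_pow_left (n := i)).mpr (Equiv.Perm.SameCycle.refl _ _)
  set g : ι → K := fun a => if a ≠ i₀ ∧ rep a = a then F a else 0 with hg
  have hterm : ∀ i : ℕ, T ^ i * (∑ a, g a • e a) * Ti ^ i =
      ∑ a, (if (π ^ i).symm a ≠ i₀ ∧ rep ((π ^ i).symm a) = (π ^ i).symm a then F a else 0) • e a := by
    intro i
    induction i with
    | zero => simp [hg, Equiv.Perm.one_def]
    | succ i ih =>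
      rw [pow_succ' T, pow_succ Ti, show T * T ^ i * (∑ a, g a • e a) * (Ti ^ i * Ti) =
        T * (T ^ i * (∑ a, g a • e a) * Ti ^ i) * Ti by simp only [mul_assoc], ih, hcomb]
      refine Finset.sum_congr rfl fun a _ => ?_
      congr 1
      rw [show (π ^ (i + 1)).symm a = (π ^ i).symm (π.symm a) by
        rw [Equiv.symm_apply_eq, pow_succ', Equiv.Perm.mul_apply, Equiv.apply_symm_apply, Equiv.apply_symm_apply]]
      split_ifs
      · rw [← hFs, Equiv.apply_symm_apply]
      · rw [zero_mul]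
  refine ⟨F i₀, ∑ a, g a • e a, ?_⟩
  rw [Finset.sum_congr rfl (fun i _ => hterm i), Finset.sum_comm, hF, ← Finset.add_sum_erase _ _ (Finset.mem_univ i₀),
    ← Finset.add_sum_erase Finset.univ (fun a => ∑ i ∈ Finset.range P, _) (Finset.mem_univ i₀), hi₀]
  have hfixk : ∀ k : ℕ, (π ^ k) i₀ = i₀ := by
    intro k
    induction k with
    | zero => rfl
    | succ k ih => rw [pow_succ', Equiv.Perm.mul_apply, ih, hfix]
  have h0 : (∑ i ∈ Finset.range P, (if (π ^ i).symm i₀ ≠ i₀ ∧ rep ((π ^ i).symm i₀) = (π ^ i).symm i₀ then F i₀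
      else 0) • (1 : End K U)) = 0 := Finset.sum_eq_zero fun i _ => by
    rw [if_neg fun h => h.1 ((Equiv.symm_apply_eq _).mpr (hfixk i).symm), zero_smul]
  rw [h0, zero_add]
  congr 1
  refine Finset.sum_congr rfl fun a ha => ?_
  have ha0 : a ≠ i₀ := Finset.ne_of_mem_erase ha
  rw [← Finset.sum_smul]
  congr 1
  obtain ⟨j, hj, hja⟩ := (hrep a).exists_pow_eq'
  have hjP : j < P := hj.trans_le (Nat.le_of_dvd hP (orderOf_dvd_of_pow_eq_one hπP))
  rw [Finset.sum_eq_single j]
  · have e1 : (π ^ j).symm a = rep a := (Equiv.symm_apply_eq _).mpr hja.symm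
    rw [e1, if_pos]
    refine ⟨fun h => ha0 (by rw [← hja, h, hfixk]), ?_⟩
    have := hrep' (rep a) j
    rw [hja] at this
    exact this.symm
  · intro i hi hij
    rw [if_neg]
    rintro ⟨h1, h2⟩
    set d := (π ^ i).symm a with hd
    have hda : (π ^ i) d = a := (π ^ i).apply_symm_apply a
    have hdr : d = rep a := by rw [← h2, ← hda, hrep']
    rw [hdr] at hda h1
    have hiP := Finset.mem_range.mp hi
    have key : ∀ l m : ℕ, l < m → m < P → (π ^ l) (rep a) = (π ^ m) (rep a) → False := by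
      intro l m hlm hm h
      rw [show m = l + (m - l) by omega, pow_add, Equiv.Perm.mul_apply] at h
      have := Nat.le_of_dvd (by omega) (hfree _ h1 (m - l) ((π ^ l).injective h.symm))
      omega
    rcases lt_or_gt_of_ne hij with h' | h'
    · exact key i j h' hjP (hda.trans hja.symm)
    · exact key j i h' hiP (hja.trans hda.symm)
  · intro h; exact absurd (Finset.mem_range.mpr hjP) h

variable [IsAlgClosed K] [FiniteDimensional K W] [Nontrivial W]

set_option maxHeartbeats 1000000 in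
theorem exceptional [Finite H] (τ : H →* End K W) (hH : (Nat.card H : K) ≠ 0) (β : MulAut H)
    (B : End K W) (hβ : ∀ h, B * τ h = τ (β h) * B) {m : ℕ} {P : ℕ} (hPm : P = 2 ^ m) (hP2 : 2 ≤ P)
    (hB : B ^ P = 1) (hsum : ∑ i ∈ Finset.range P, B ^ i = 0) (hscal : ∀ g h : H, ∃ c : K, τ ⁅g, h⁆ = c • 1)
    (hcent : ∀ h : H, (∀ g, Commute (τ h) (τ g)) → h ∈ scalarSub τ)
    (hnonab : scalarSub τ ≠ ⊤)
    (hfree : ∀ (k : ℕ) (h : H), h⁻¹ * (β ^ k) h ∈ scalarSub τ → P ∣ k ∨ h ∈ scalarSub τ) :
    ∃ d : ℕ, d * d = (scalarSub τ).index ∧ d + 1 = P := by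
  classical
  haveI : NeZero P := ⟨by omega⟩
  set S := scalarSub τ with hS
  set Bi := B ^ (P - 1) with hBi
  have hBBi : B * Bi = 1 := by rw [hBi, ← pow_succ', Nat.sub_add_cancel (by omega), hB]
  have hBiB : Bi * B = 1 := by rw [hBi, ← pow_succ, Nat.sub_add_cancel (by omega), hB]
  have hβ' : ∀ h, τ (β h) = B * τ h * Bi := fun h => by rw [hβ, mul_assoc, hBBi, mul_one]
  have hβk : ∀ (k : ℕ) h, B ^ k * τ h = τ ((β ^ k) h) * B ^ k := by
    intro k
    induction k with
    | zero => intro h; simp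
    | succ k ih =>
      intro h
      rw [pow_succ, mul_assoc, hβ, ← mul_assoc, ih, mul_assoc, ← pow_succ, pow_succ β, MulAut.mul_apply]
  have hβP : ∀ h, τ ((β ^ P) h) = τ h := fun h => by simpa [hB] using (hβk P h).symm
  have hβS : S.map (β : H →* H) = S := by
    refine Subgroup.eq_of_le_of_card_ge ?_ (Subgroup.card_map_of_injective β.injective).ge
    rintro _ ⟨h, ⟨c, hc⟩, rfl⟩
    exact ⟨c, by
      show τ (β h) = _
      rw [hβ', hc, mul_smul_comm, mul_one, smul_mul_assoc, hBBi]⟩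
  haveI := Fintype.ofFinite (H ⧸ S)
  let π : Equiv.Perm (H ⧸ S) := (QuotientGroup.congr S S β hβS).toEquiv
  have hπk : ∀ (k : ℕ) (h : H), (π ^ k) (QuotientGroup.mk h) = QuotientGroup.mk ((β ^ k) h) := by
    intro k
    induction k with
    | zero => intro h; simp
    | succ k ih => intro h; rw [pow_succ', Equiv.Perm.mul_apply, ih, pow_succ' β, MulAut.mul_apply]; rfl
  -- representatives
  let r' : H ⧸ S → H := fun a => if a = 1 then 1 else a.out
  have hmk : ∀ a, (QuotientGroup.mk (r' a) : H ⧸ S) = a := fun a => by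
    simp only [r']
    split_ifs with ha
    · rw [ha]; rfl
    · exact QuotientGroup.out_eq' a
  have hr : ∀ a b, (r' a)⁻¹ * r' b ∈ S → a = b := fun a b h => by
    rw [← hmk a, ← hmk b]; exact QuotientGroup.eq.mpr h
  set e : H ⧸ S → End K W := fun a => τ (r' a) with he
  have hdec : ∀ h : H, ∃ c : K, τ h = c • e (QuotientGroup.mk h) := fun h => by
    obtain ⟨c, hc⟩ : (r' (QuotientGroup.mk h))⁻¹ * h ∈ S := QuotientGroup.eq.mp (hmk _)
    refine ⟨c, ?_⟩
    calc τ h = τ (r' (QuotientGroup.mk h)) * τ ((r' (QuotientGroup.mk h))⁻¹ * h) := by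
          rw [← map_mul, mul_inv_cancel_left]
      _ = _ := by rw [hc, mul_smul_comm, mul_one]
  choose χ hχ using hdec
  -- an irreducible constituent
  obtain ⟨U, ⟨hU0, hUH⟩, hUmin⟩ := (wellFounded_lt (α := Submodule K W)).has_min
    {U : Submodule K W | U ≠ ⊥ ∧ ∀ g : H, ∀ w ∈ U, τ g w ∈ U}
    ⟨⊤, top_ne_bot, fun _ _ _ => Submodule.mem_top⟩
  haveI : Nontrivial U := Submodule.nontrivial_iff_ne_bot.mpr hU0
  let τU : H →* End K U :=
    { toFun := fun g => (τ g).restrict (hUH g)
      map_one' := by ext w; simp [LinearMap.restrict_apply]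
      map_mul' := fun a b => by ext w; simp [LinearMap.restrict_apply] }
  have hτU : ∀ g (u : U), ((τU g u : U) : W) = τ g u := fun g u => rfl
  have hirr : QIrred τU (⊤ : Subgroup H) := by
    intro X hX
    have hinv : ∀ g : H, ∀ w ∈ X.map U.subtype, τ g w ∈ X.map U.subtype := by
      rintro g _ ⟨w, hw, rfl⟩
      exact ⟨τU g w, hX g (Subgroup.mem_top g) w hw, rfl⟩
    by_cases h0 : X.map U.subtype = ⊥
    · exact Or.inl (Submodule.map_injective_of_injective U.injective_subtype (h0.trans (Submodule.map_bot _).symm))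
    · exact Or.inr (Submodule.map_injective_of_injective U.injective_subtype
        ((eq_of_le_of_not_lt (Submodule.map_subtype_le U X) (hUmin _ ⟨h0, hinv⟩)).trans
          (Submodule.map_subtype_top U).symm))
  set eU : H ⧸ S → End K U := fun a => τU (r' a) with heU
  have hχU : ∀ h, τU h = χ h • eU (QuotientGroup.mk h) := fun h => LinearMap.ext fun u => Subtype.ext (by
    rw [hτU, hχ, LinearMap.smul_apply, LinearMap.smul_apply, Submodule.coe_smul]; rfl)
  have hind : ∀ (W' : Submodule K W), (∀ g, ∀ w ∈ W', τ g w ∈ W') → W' ≠ ⊥ → ∀ c : H ⧸ S → K,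
      (∀ w ∈ W', ∑ a, c a • τ (r' a) w = 0) → c = 0 :=
    fun W' h1 h2 c hc => reps_indep τ hH hscal hcent W' h1 h2 r' hr c hc
  have hliU : LinearIndependent K eU := by
    rw [Fintype.linearIndependent_iff]
    intro c hc
    refine congrFun (hind U hUH hU0 c fun w hw => ?_)
    have h1 := congrArg Subtype.val (LinearMap.congr_fun hc ⟨w, hw⟩)
    simpa [LinearMap.sum_apply, heU, hτU] using h1
  have hspan : ⊤ ≤ Submodule.span K (Set.range eU) := by
    intro f _
    refine Submodule.span_le.mpr ?_ (density hirr f)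
    rintro _ ⟨g, -, rfl⟩
    rw [SetLike.mem_coe, hχU g]
    exact Submodule.smul_mem _ _ (Submodule.subset_span ⟨_, rfl⟩)
  let bU := Module.Basis.mk hliU hspan
  have hbU : ∀ a, bU a = eU a := fun a => Module.Basis.mk_apply hliU hspan a
  let Ψ : End K U →ₗ[K] End K W := bU.constr K e
  have hΨ : ∀ h, Ψ (τU h) = τ h := fun h => by
    rw [hχU, map_smul, ← hbU, Module.Basis.constr_basis, ← hχ]
  have hΨmul : ∀ f g, Ψ (f * g) = Ψ f * Ψ g := by
    have key : Ψ ∘ₗ LinearMap.mulLeft K (1 : End K U) = Ψ := by ext; simp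
    intro f g
    have h1 : ∀ a g, Ψ (eU a * g) = Ψ (eU a) * Ψ g := by
      intro a g
      have : Ψ ∘ₗ LinearMap.mulLeft K (eU a) = LinearMap.mulLeft K (Ψ (eU a)) ∘ₗ Ψ := bU.ext fun b => by
        rw [LinearMap.comp_apply, LinearMap.comp_apply, LinearMap.mulLeft_apply, LinearMap.mulLeft_apply,
          hbU, heU, ← map_mul τU, hΨ, hΨ, hΨ, map_mul τ]
      exact LinearMap.congr_fun this g
    have h2 : Ψ ∘ₗ LinearMap.mulRight K g = LinearMap.mulRight K (Ψ g) ∘ₗ Ψ := bU.ext fun a => by
      rw [LinearMap.comp_apply, LinearMap.comp_apply, LinearMap.mulRight_apply, LinearMap.mulRight_apply,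
        hbU, h1]
    exact LinearMap.congr_fun h2 f
  have hΨone : Ψ 1 = 1 := by rw [← map_one τU, hΨ, map_one]
  have hΨpow : ∀ f (k : ℕ), Ψ (f ^ k) = Ψ f ^ k := fun f k => by
    induction k with
    | zero => simp [hΨone]
    | succ k ih => rw [pow_succ, pow_succ, hΨmul, ih]
  have hΨres : ∀ f (u : U), Ψ f u = (f u : W) := fun f u => by
    have : (LinearMap.applyₗ (u : W)) ∘ₗ Ψ = U.subtype ∘ₗ LinearMap.applyₗ u := bU.ext fun a => by
      rw [LinearMap.comp_apply, LinearMap.comp_apply, hbU, hΨ (r' a)]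
      rfl
    exact LinearMap.congr_fun this f
  have hΨinj : ∀ (W' : Submodule K W), (∀ g, ∀ w ∈ W', τ g w ∈ W') → W' ≠ ⊥ → ∀ f,
      (∀ w ∈ W', Ψ f w = 0) → f = 0 := by
    intro W' h1 h2 f hf
    have hc := hind W' h1 h2 (bU.repr f) fun w hw => by
      rw [← hf w hw, Module.Basis.constr_apply_fintype, LinearMap.sum_apply]
      exact Finset.sum_congr rfl fun a _ => by simp [Module.Basis.equivFun_apply, he]
    refine bU.repr.injective ?_
    rw [map_zero]
    exact Finsupp.ext fun a => congrFun hc a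
  -- the conjugation by `B` on `End U`
  let θ : End K U →ₗ[K] End K U := bU.constr K fun a => τU (β (r' a))
  have hθΨ : ∀ f, Ψ (θ f) = B * Ψ f * Bi := fun f => by
    have : Ψ ∘ₗ θ = (LinearMap.mulRight K Bi ∘ₗ LinearMap.mulLeft K B) ∘ₗ Ψ := bU.ext fun a => by
      rw [LinearMap.comp_apply, Module.Basis.constr_basis, hΨ, hβ', LinearMap.comp_apply, hbU, hΨ]
      rfl
    exact LinearMap.congr_fun this f
  have hinj : Function.Injective Ψ := (injective_iff_map_eq_zero _).mpr fun f hf =>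
    hΨinj U hUH hU0 f fun w _ => by rw [hf]; rfl
  have hθmul : ∀ f g, θ (f * g) = θ f * θ g := fun f g => hinj (by
    rw [hΨmul (θ f), hθΨ, hθΨ, hθΨ, hΨmul]
    calc B * (Ψ f * Ψ g) * Bi = B * Ψ f * (Bi * B) * Ψ g * Bi := by rw [hBiB, mul_one]; simp only [mul_assoc]
      _ = _ := by simp only [mul_assoc])
  have hθτ : ∀ h, θ (τU h) = τU (β h) := fun h => hinj (by rw [hθΨ, hΨ, hΨ, hβ'])
  obtain ⟨v₀, hv₀⟩ := exists_ne (0 : U)
  obtain ⟨φ, hφ⟩ : ∃ φ : Module.Dual K U, φ v₀ = 1 := by
    obtain ⟨φ, hφ⟩ : ∃ φ : Module.Dual K U, φ v₀ ≠ 0 := by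
      by_contra! hc
      exact hv₀ ((Module.forall_dual_apply_eq_zero_iff K _).mp hc)
    exact ⟨(φ v₀)⁻¹ • φ, by simp [inv_mul_cancel₀ hφ]⟩
  set p₀ := φ.smulRight v₀ with hp₀
  obtain ⟨u₀, hu₀⟩ : ∃ u, θ p₀ u ≠ 0 := by
    by_contra! hc
    have h1 : θ p₀ = 0 := LinearMap.ext hc
    have h2 : Ψ p₀ = 0 := by
      have := hθΨ p₀
      rw [h1, map_zero] at this
      calc Ψ p₀ = Bi * (B * Ψ p₀ * Bi) * B := by
            rw [← mul_assoc, ← mul_assoc, hBiB, one_mul, mul_assoc, hBiB, mul_one]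
        _ = 0 := by rw [← this]; simp
    have h3 : p₀ = 0 := hinj (by rw [h2, map_zero])
    have := LinearMap.congr_fun h3 v₀
    simp [hp₀, hφ, hv₀] at this
  let T₀ : End K U :=
    { toFun := fun w => θ (φ.smulRight w) u₀
      map_add' := fun a b => by
        rw [show φ.smulRight (a + b) = φ.smulRight a + φ.smulRight b by ext; simp, map_add, LinearMap.add_apply]
      map_smul' := fun c a => by
        rw [show φ.smulRight (c • a) = c • φ.smulRight a by ext x; exact smul_comm _ _ _, map_smul]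
        rfl }
  have hT₀ : ∀ h, τU (β h) * T₀ = T₀ * τU h := fun h => LinearMap.ext fun w => by
    show τU (β h) (θ (φ.smulRight w) u₀) = θ (φ.smulRight (τU h w)) u₀
    rw [← hθτ, ← Module.End.mul_apply, ← hθmul]
    congr 2
    ext x
    simp
  have hT₀inj : Function.Injective T₀ := by
    rw [← LinearMap.ker_eq_bot]
    refine (hirr (LinearMap.ker T₀) fun g _ w hw => ?_).resolve_right fun htop => ?_
    · rw [LinearMap.mem_ker] at hw ⊢
      rw [← Module.End.mul_apply, ← hT₀, Module.End.mul_apply, hw, map_zero]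
    · have h1 : T₀ (θ p₀ u₀) = 0 := LinearMap.congr_fun (LinearMap.ker_eq_top.mp htop) _
      have h2 : T₀ v₀ = θ p₀ u₀ := rfl
      exact hu₀ (by rw [← h2, LinearMap.ker_eq_top.mp htop]; rfl)
  have hT₀k : ∀ (k : ℕ) h, τU ((β ^ k) h) * T₀ ^ k = T₀ ^ k * τU h := by
    intro k
    induction k with
    | zero => intro h; simp
    | succ k ih =>
      intro h
      rw [pow_succ T₀, ← mul_assoc, pow_succ β, MulAut.mul_apply, ih, mul_assoc, hT₀, ← mul_assoc]
  have hτUP : ∀ h, τU ((β ^ P) h) = τU h := fun h => LinearMap.ext fun u => Subtype.ext (by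
    rw [hτU, hτU, hβP])
  obtain ⟨c, hc⟩ := schur hirr (T₀ ^ P) fun g _ => by
    show T₀ ^ P * τU g = τU g * T₀ ^ P
    rw [← hT₀k, hτUP]
  have hc0 : c ≠ 0 := fun h => by
    have h1 : Function.Injective (T₀ ^ P) := by
      rw [Module.End.coe_pow]; exact hT₀inj.iterate P
    rw [h, zero_smul] at hc
    exact hv₀ (h1 (by rw [hc]; rfl))
  obtain ⟨c', hc'⟩ := IsAlgClosed.exists_pow_nat_eq c⁻¹ (n := P) (by omega)
  set T := c' • T₀ with hTdef
  have hTP : T ^ P = 1 := by rw [hTdef, smul_pow, hc', hc, smul_smul, inv_mul_cancel₀ hc0, one_smul]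
  have hT : ∀ h, T * τU h = τU (β h) * T := fun h => by
    rw [hTdef, smul_mul_assoc, mul_smul_comm, hT₀]
  have hcard : Fintype.card (H ⧸ S) = finrank K U * finrank K U := by
    rw [← Module.finrank_linearMap K K U U]
    exact (Module.finrank_eq_card_basis bU).symm
  have hidx : S.index = finrank K U * finrank K U := by
    rw [Subgroup.index, Nat.card_eq_fintype_card, hcard]
  set Ti := T ^ (P - 1) with hTi
  have hTTi : T * Ti = 1 := by rw [hTi, ← pow_succ', Nat.sub_add_cancel (by omega), hTP]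
  have hTiT : Ti * T = 1 := by rw [hTi, ← pow_succ, Nat.sub_add_cancel (by omega), hTP]
  have hθT : θ T = T := by
    have h1 : LinearMap.mulRight K T ∘ₗ θ = LinearMap.mulLeft K T := bU.ext fun a => by
      rw [LinearMap.comp_apply, Module.Basis.constr_basis, LinearMap.mulRight_apply,
        LinearMap.mulLeft_apply, hbU, hT]
    have h2 : θ T * T = T * T := LinearMap.congr_fun h1 T
    calc θ T = θ T * T * Ti := by rw [mul_assoc, hTTi, mul_one]
      _ = _ := by rw [h2, mul_assoc, hTTi, mul_one]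
  have hBT : Commute B (Ψ T) := by
    show B * Ψ T = Ψ T * B
    conv_rhs => rw [← hθT, hθΨ, mul_assoc, hBiB, mul_one]
  set S' := B * Ψ Ti with hS'
  have hBTi : Commute B (Ψ Ti) := by rw [hTi, hΨpow]; exact hBT.pow_right _
  have hS'P : S' ^ P = 1 := by
    rw [hS', hBTi.mul_pow, hB, one_mul, ← hΨpow, hTi, ← pow_mul, mul_comm, pow_mul, hTP, one_pow, hΨone]
  have hS'τ : ∀ h, S' * τ h = τ h * S' := fun h => by
    obtain ⟨h', rfl⟩ := β.surjective h
    have e : Ti * τU (β h') = τU h' * Ti := by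
      calc Ti * τU (β h') = Ti * (τU (β h') * T) * Ti := by rw [mul_assoc, mul_assoc, hTTi, mul_one]
        _ = _ := by rw [← hT, ← mul_assoc, hTiT, one_mul]
    have e2 := congrArg Ψ e
    rw [hΨmul, hΨmul, hΨ, hΨ] at e2
    rw [hS', mul_assoc, e2, ← mul_assoc, hβ, mul_assoc]
  have hX : LinearMap.ker (S' - 1) ≠ ⊥ := by
    intro h
    haveI : CharP (End K W) 2 := charP_of_injective_algebraMap (algebraMap K (End K W)).injective 2
    have h1 : (S' - 1) ^ P = 0 := by
      rw [hPm, sub_pow_char_pow_of_commute 2 m (Commute.one_right _), one_pow, ← hPm, hS'P, sub_self]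
    have hinj : Function.Injective ((S' - 1) ^ P : End K W) := by
      rw [Module.End.coe_pow]; exact (LinearMap.ker_eq_bot.mp h).iterate P
    obtain ⟨w, hw⟩ := exists_ne (0 : W)
    exact hw (hinj (by rw [h1]; simp))
  have hXinv : ∀ g, ∀ w ∈ LinearMap.ker (S' - 1), τ g w ∈ LinearMap.ker (S' - 1) := fun g w hw => by
    rw [LinearMap.mem_ker, LinearMap.sub_apply, Module.End.one_apply, sub_eq_zero] at hw ⊢
    rw [← Module.End.mul_apply, hS'τ, Module.End.mul_apply, hw]
  have hcS : Commute S' (Ψ T) := Commute.mul_left hBT (by rw [hTi, hΨpow]; exact (Commute.refl _).pow_left _)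
  have hBdec : B = S' * Ψ T := by
    rw [hS', mul_assoc, ← hΨmul, hTiT, hΨone, mul_one]
  have hfixS : ∀ (i : ℕ) w, w ∈ LinearMap.ker (S' - 1) → (B ^ i) w = Ψ (T ^ i) w := by
    intro i w hw
    rw [LinearMap.mem_ker, LinearMap.sub_apply, Module.End.one_apply, sub_eq_zero] at hw
    rw [hBdec, hcS.mul_pow, (hcS.pow_pow i i).eq, Module.End.mul_apply, hΨpow]
    congr 1
    induction i with
    | zero => rfl
    | succ i ih => rw [pow_succ, Module.End.mul_apply, hw, ih]
  have hT0 : ∑ i ∈ Finset.range P, T ^ i = 0 := hΨinj _ hXinv hX _ fun w hw => by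
    rw [map_sum, LinearMap.sum_apply, ← Finset.sum_congr rfl (fun i _ => hfixS i w hw), ← LinearMap.sum_apply,
      hsum, LinearMap.zero_apply]
  haveI : Fact (Nat.Prime 2) := ⟨Nat.prime_two⟩
  rw [hPm, geom_sum_eq_pow (K := K) (p := 2)] at hT0
  have hex : ∃ r, (T - 1) ^ r = 0 := ⟨_, hT0⟩
  set r := Nat.find hex with hr
  have hr0 : (T - 1) ^ r = 0 := Nat.find_spec hex
  have hr2 : 2 ≤ r := by
    by_contra hlt
    have h1 : T - 1 = 0 := by
      have := pow_eq_zero_of_le (show r ≤ 1 by omega) hr0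
      rwa [pow_one] at this
    refine hnonab (eq_top_iff.mpr fun h _ => ((hfree 1 h ?_).resolve_left fun hd => ?_))
    · refine ⟨1, ?_⟩
      rw [pow_one, map_mul, ← hΨ (β h), show τU (β h) = τU h by
        have h2 := hT h
        rw [sub_eq_zero.mp h1, one_mul, mul_one] at h2
        exact h2.symm, hΨ, ← map_mul, inv_mul_cancel, map_one, one_smul]
    · have := Nat.le_of_dvd Nat.one_pos hd
      omega
  have hrP : r < 2 ^ m := lt_of_le_of_lt (Nat.find_min' hex hT0) (by omega)
  have hπ1 : π 1 = 1 := map_one (QuotientGroup.congr S S β hβS)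
  have heU1 : eU 1 = 1 := by show τU (r' 1) = 1; simp [r']
  obtain ⟨hdim, hd⟩ := single_block (p := 2) (n := m) hr0 (Nat.find_min hex (by omega)) hr2 hrP fun f hf => by
    obtain ⟨c, φ, e⟩ := exists_trace (P := P) (by omega) hTTi eU hliU π 1 hπ1 heU1 (Equiv.ext fun a => by
        rw [← hmk a, hπk, Equiv.Perm.one_apply]
        refine (QuotientGroup.eq.mpr (show (r' a)⁻¹ * (β ^ P) (r' a) ∈ S from ⟨1, ?_⟩)).symm
        rw [map_mul, hβP, ← map_mul, inv_mul_cancel, map_one, one_smul])
      (fun a ha k hk => by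
        rw [← hmk a, hπk] at hk
        refine (hfree k (r' a) (QuotientGroup.eq.mp hk.symm)).resolve_right fun hm => ha ?_
        rw [← hmk a]; exact (QuotientGroup.eq_one_iff _).mpr hm)
      (fun a => χ (β (r' a)))
      (fun a => by
        show T * τU (r' a) = _
        rw [hT, hχU, smul_mul_assoc]
        congr 2
        show eU (QuotientGroup.mk (β (r' a))) = eU (π a)
        rw [show π a = π (QuotientGroup.mk (r' a)) by rw [hmk]]
        rfl) hspan f hf
    exact ⟨c, φ, by rw [e, trP, ← hPm]⟩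
  exact ⟨finrank K U, hidx.symm, by omega⟩

end Cfsg.Agent.GenA.TwoLength
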