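import Cfsg.Agent.GenA.ShultGross.TwoLower
import Cfsg.Agent.GenA.TwoLength.Scalar

/-!
Systems of eigenvalues and pairings for an operator of two-power order without a full block: the part
inverted by the half power.
-/

set_option autoImplicit false

namespace Cfsg.Agent.GenA.TwoLength

open Module (End finrank)
open Cfsg.Agent.PLocal.TheoremB (Normalizes)
open Cfsg.Agent.GenA.ShultGross
open Cfsg.Agent.GenA.ShultGross.Two hiding orbit stage_one abelian_fix lower
open scoped commutatorElement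

variable {K : Type*} [Field K] {V : Type*} [AddCommGroup V] [Module K V]

/-- The orbit of a system of eigenvalues under a fixed-point-free operator of two-power order. -/
theorem orbit {S : Type*} (f : S → End K V) (θ : Equiv.Perm S) (B : End K V)
    (hB : ∀ s, B * f s = f (θ s) * B) {n : ℕ} (hBn : B ^ 2 ^ n = 1) (hsum : ∀ w, ∑ i ∈ Finset.range (2 ^ n), (B ^ i) w = 0)
    (χ : S → K) (hW : eigs f χ ≠ ⊥) :
    ∃ j < n, (∀ i, j ≤ i → ∀ s, χ ((θ ^ 2 ^ i) s) = χ s) ∧
      (∀ w ∈ eigs f χ, (B ^ 2 ^ j) w ∈ eigs f χ) ∧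
      (∀ w ∈ eigs f χ, ∑ i ∈ Finset.range (2 ^ (n - j)), ((B ^ 2 ^ j) ^ i) w = 0) := by
  obtain ⟨w₁, hw₁, hw₁0⟩ := Submodule.exists_mem_ne_zero_of_ne_bot hW
  have hBinv : B ^ (2 ^ n - 1) * B = 1 := by
    rw [← pow_succ, Nat.sub_add_cancel Nat.one_le_two_pow, hBn]
  have hBinj : ∀ k : ℕ, Function.Injective ((B ^ k : End K V) : V → V) := fun k => by
    rw [Module.End.coe_pow]
    refine Function.Injective.iterate (Function.LeftInverse.injective
      (g := ((B ^ (2 ^ n - 1) : End K V) : V → V)) fun w => ?_) k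
    rw [← Module.End.mul_apply, hBinv, Module.End.one_apply]
  set F : (S → K) → S → K := fun φ => φ ∘ θ.symm with hF
  have hFl : ∀ (l : ℕ) (φ : S → K) s, F^[l] φ ((θ ^ l) s) = φ s := by
    intro l
    induction l with
    | zero => intro φ s; rfl
    | succ l ih =>
      intro φ s
      rw [Function.iterate_succ_apply', pow_succ', Equiv.Perm.mul_apply]
      show F^[l] φ (θ.symm (θ _)) = _
      rw [Equiv.symm_apply_apply, ih]
  have hBk : ∀ (l : ℕ) s, B ^ l * f s = f ((θ ^ l) s) * B ^ l := by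
    intro l
    induction l with
    | zero => intro s; simp
    | succ l ih =>
      intro s
      rw [pow_succ, mul_assoc, hB, ← mul_assoc, ih, mul_assoc, ← pow_succ, pow_succ θ, Equiv.Perm.mul_apply]
  have hv : ∀ (l : ℕ) s, ∀ w ∈ eigs f χ, f s ((B ^ l) w) = F^[l] χ s • (B ^ l) w := by
    intro l s w hw
    obtain ⟨s', rfl⟩ := (θ ^ l).surjective s
    rw [hFl, ← Module.End.mul_apply, ← hBk, Module.End.mul_apply, mem_eigs.mp hw, map_smul]
  have hN : Function.IsPeriodicPt F (2 ^ n) χ := funext fun s => by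
    have h := hv (2 ^ n) s w₁ hw₁
    rw [hBn, Module.End.one_apply, mem_eigs.mp hw₁ s] at h
    exact (smul_left_injective K hw₁0 h).symm
  obtain ⟨j, hjn, hj⟩ := (Nat.dvd_prime_pow Nat.prime_two).mp hN.minimalPeriod_dvd
  set L := Function.minimalPeriod F χ with hL
  have hper : ∀ i, j ≤ i → F^[2 ^ i] χ = χ := fun i hi =>
    (Function.isPeriodicPt_minimalPeriod F χ).trans_dvd (by rw [← hL, hj]; exact pow_dvd_pow 2 hi)
  have hsumW : ∀ w ∈ eigs f χ, ∑ i ∈ Finset.range (2 ^ (n - j)), ((B ^ 2 ^ j) ^ i) w = 0 := by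
    intro w hw
    set v := ∑ i ∈ Finset.range (2 ^ (n - j)), ((B ^ 2 ^ j) ^ i) w with hv0
    have hvW : v ∈ eigs f χ := by
      suffices h : ∀ i : ℕ, ((B ^ 2 ^ j) ^ i) w ∈ eigs f χ from Submodule.sum_mem _ fun i _ => h i
      intro i
      induction i with
      | zero => simpa using hw
      | succ i ih =>
        rw [pow_succ', Module.End.mul_apply]
        exact mem_eigs.mpr fun s => by rw [hv _ s _ ih, hper j le_rfl]
    have hy : ∑ l ∈ Finset.range L, (B ^ l) v = 0 := by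
      rw [← hsum w, show 2 ^ n = L * 2 ^ (n - j) by rw [hj, ← pow_add, Nat.add_sub_cancel' hjn],
        sum_range_mul', Finset.sum_comm]
      refine Finset.sum_congr rfl fun l _ => ?_
      rw [hv0, map_sum]
      refine Finset.sum_congr rfl fun i _ => ?_
      rw [← pow_mul, ← hj, ← Module.End.mul_apply, ← pow_add, add_comm]
    have h0 := eigen_indep (fun s : S => f s) (fun l => F^[l] χ) (Finset.range L) (fun l => (B ^ l) v)
      (fun l _ s => hv l s v hvW) (fun a ha b hb e => Function.iterate_injOn_Iio_minimalPeriod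
        (Finset.mem_range.mp ha) (Finset.mem_range.mp hb) e) hy 0
      (Finset.mem_range.mpr (by rw [hj]; positivity))
    simpa using h0
  refine ⟨j, lt_of_le_of_ne hjn ?_, fun i hi s => ?_, fun w hw => mem_eigs.mpr fun s => ?_, hsumW⟩
  · rintro rfl
    exact hw₁0 (by simpa using hsumW w₁ hw₁)
  · have := hFl (2 ^ i) χ s
    rwa [hper i hi] at this
  · rw [hv _ s w hw, hper j le_rfl]

variable {Γ : Type*} [Group Γ] [Finite Γ]

/-- The half power of a element of two-power order without a full block centralizes normalized abelian images. -/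
theorem abelian_fix [IsAlgClosed K] [FiniteDimensional K V] (ρ : Γ →* End K V) (A : Subgroup Γ) (x : Γ)
    {n q : ℕ} (hn : 1 ≤ n) (hq : (q : K) ≠ 0) (hA : IsPGroup q A) (hxA : Normalizes x A)
    (hcomm : ∀ a ∈ A, ∀ b ∈ A, Commute (ρ a) (ρ b)) (hxP : x ^ 2 ^ n = 1)
    (hsum : ∀ v : V, ∑ i ∈ Finset.range (2 ^ n), (ρ x ^ i) v = 0) {a : Γ} (ha : a ∈ A) :
    ρ (x ^ 2 ^ (n - 1) * a * (x ^ 2 ^ (n - 1))⁻¹) = ρ a := by
  set t := x ^ 2 ^ (n - 1) with ht
  have htA : t * a * t⁻¹ ∈ A := hxA.pow _ a ha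
  obtain ⟨k, hk⟩ := hA ⟨t * a * t⁻¹ * a⁻¹, mul_mem htA (inv_mem ha)⟩
  have h1 : ρ (t * a * t⁻¹ * a⁻¹) = 1 := by
    refine eq_one_of_joint (fun b : A => ρ b) (fun b c => hcomm _ b.2 _ c.2) _
      (fun b => hcomm _ (mul_mem htA (inv_mem ha)) _ b.2) (N := q ^ k)
      (by rw [Nat.cast_pow]; exact pow_ne_zero k hq)
      (by rw [← map_pow, show (t * a * t⁻¹ * a⁻¹) ^ q ^ k = 1 by simpa using congrArg Subtype.val hk, map_one])
      fun χ w hw => ?_
    by_cases hW : eigs (fun b : A => ρ b) χ = ⊥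
    · rw [hW, Submodule.mem_bot] at hw
      rw [hw, map_zero]
    obtain ⟨j, hjn, hinv, -⟩ := orbit (fun b : A => ρ b) (conjAut hxA).toEquiv (ρ x)
      (fun b => by
        show ρ x * ρ b = ρ ((conjAut hxA b : A) : Γ) * ρ x
        rw [← map_mul, ← map_mul, conjAut_apply, inv_mul_cancel_right])
      (n := n) (by rw [← map_pow, hxP, map_one]) hsum χ hW
    have hs : χ ⟨t * a * t⁻¹, htA⟩ = χ ⟨a, ha⟩ := by
      rw [← hinv (n - 1) (by omega) ⟨a, ha⟩]
      congr 1
      refine Subtype.ext ?_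
      rw [pow_aut_toEquiv, conjAut_pow]
    have hw' : ρ a⁻¹ w ∈ eigs (fun b : A => ρ b) χ :=
      eigs_invariant (fun b : A => hcomm _ (inv_mem ha) _ b.2) w hw
    rw [map_mul, Module.End.mul_apply, show ρ (t * a * t⁻¹) (ρ a⁻¹ w) = _ from mem_eigs.mp hw' ⟨_, htA⟩, hs,
      ← show ρ a (ρ a⁻¹ w) = _ from mem_eigs.mp hw' ⟨_, ha⟩, ← Module.End.mul_apply, ← map_mul, mul_inv_cancel,
      map_one, Module.End.one_apply]
  calc ρ (t * a * t⁻¹) = ρ (t * a * t⁻¹ * a⁻¹ * a) := by rw [inv_mul_cancel_right]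
    _ = ρ a := by rw [map_mul, h1, one_mul]

variable {ρ : Γ →* End K V} {Q : Subgroup Γ} {lam : Γ → Γ → K} {x : Γ} {n : ℕ}

/-- The orbit of a pairing. -/
theorem stage_one (h : Pairing ρ Q lam) (hxQ : Normalizes x Q) (hxP : x ^ 2 ^ n = 1)
    (hsum : ∀ v : V, ∑ i ∈ Finset.range (2 ^ n), (ρ x ^ i) v = 0) :
    ∃ j < n, (∀ i, j ≤ i → Preserves Q lam (x ^ 2 ^ i)) ∧
      (∀ w ∈ pairSpace ρ Q lam, ∑ i ∈ Finset.range (2 ^ (n - j)), (ρ (x ^ 2 ^ j) ^ i) w = 0) := by
  let e : Equiv.Perm Q := (conjAut hxQ).toEquiv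
  let θ : Equiv.Perm (Q × Q) := Equiv.prodCongr e e
  have hθ : ∀ (i : ℕ) (p : Q × Q), (θ ^ i) p = ((e ^ i) p.1, (e ^ i) p.2) := by
    intro i
    induction i with
    | zero => intro p; rfl
    | succ i ih =>
      intro p
      rw [pow_succ', Equiv.Perm.mul_apply, ih, pow_succ', Equiv.Perm.mul_apply, Equiv.Perm.mul_apply]
      rfl
  obtain ⟨j, hjn, hinv, -, hfix⟩ := orbit (fun p : Q × Q => ρ ⁅(p.1 : Γ), (p.2 : Γ)⁆) θ (ρ x)
    (fun p => by
      show ρ x * ρ ⁅(p.1 : Γ), (p.2 : Γ)⁆ =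
        ρ ⁅((conjAut hxQ p.1 : Q) : Γ), ((conjAut hxQ p.2 : Q) : Γ)⁆ * ρ x
      rw [← map_mul, ← map_mul, conjAut_apply, conjAut_apply]
      congr 1
      simp only [commutatorElement_def]
      group)
    (n := n) (by rw [← map_pow, hxP, map_one]) hsum _ h.ne
  refine ⟨j, hjn, fun i hi => ⟨hxQ.pow _, fun a ha b hb => ?_⟩,
    fun w hw => by rw [map_pow]; exact hfix w hw⟩
  have := hinv i hi (⟨a, ha⟩, ⟨b, hb⟩)
  rw [hθ] at this
  simp only [e, pow_aut_toEquiv, conjAut_pow] at this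
  exact this

variable [IsAlgClosed K] [FiniteDimensional K V] {q : ℕ}

set_option maxHeartbeats 1000000 in
/-- The inverted part has order the square of `q`, and `q + 1` is the order of the stabilizer of a piece. -/
theorem lower [CharP K 2] [hqf : Fact q.Prime] (hq : Odd q) (hqK : (q : K) ≠ 0) (hQ : IsPGroup q Q)
    (hxQ : Normalizes x Q) (hxP : x ^ 2 ^ n = 1) (hn : 1 ≤ n) (hsum : ∀ v : V, ∑ i ∈ Finset.range (2 ^ n), (ρ x ^ i) v = 0)
    (h : Pairing ρ Q lam) (hne : ¬ antiSub h (x ^ 2 ^ (n - 1)) (hxQ.pow _) ≤ radSub h) :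
    ∃ k < n, q + 1 = 2 ^ (n - k) ∧
      (radSub h).relIndex (antiSub h (x ^ 2 ^ (n - 1)) (hxQ.pow _)) = q ^ 2 ∧
      ∀ i, k ≤ i → Preserves Q lam (x ^ 2 ^ i) := by
  classical
  obtain ⟨j, hjn, hinv, hfix1⟩ := stage_one h hxQ hxP hsum
  set t := x ^ 2 ^ (n - 1) with ht
  have ht2 : t * t = 1 := by rw [ht, ← pow_add, ← two_mul, ← pow_succ', Nat.sub_add_cancel hn, hxP]
  have hp : Preserves Q lam t := hinv (n - 1) (by omega)
  set N1 := antiSub h t (hxQ.pow _) with hN1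
  set R := radSub h with hR
  have hRN : R ≤ N1 := rad_le_anti hp ht2
  set W0 := pairSpace ρ Q lam with hW0
  set b := x ^ 2 ^ j with hb
  have hbW : ∀ w ∈ W0, ρ b w ∈ W0 := (hinv j le_rfl).map_pairSpace
  have hbk : ∀ i, b ^ 2 ^ i = x ^ 2 ^ (j + i) := fun i => by rw [hb, ← pow_mul, ← pow_add]
  haveI : Nontrivial W0 := Submodule.nontrivial_iff_ne_bot.mpr h.ne
  -- the radical on the eigenspace
  let f : R → End K W0 := fun g => (ρ (g : Γ)).restrict (h.invariant g.2.1)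
  have hRcomm : ∀ g ∈ R, ∀ c ∈ Q, ∀ w ∈ W0, ρ g (ρ c w) = ρ c (ρ g w) := by
    intro g hg c hc w hw
    have h1 : ρ ⁅g, c⁆ (ρ c (ρ g w)) = ρ c (ρ g w) := by
      rw [mem_pairSpace (h.invariant hc _ (h.invariant hg.1 w hw)) hg.1 hc, hg.2 c hc, one_smul]
    calc ρ g (ρ c w) = ρ ⁅g, c⁆ (ρ c (ρ g w)) := by
          simp only [← Module.End.mul_apply, ← map_mul]
          congr 2
          simp only [commutatorElement_def]
          group
      _ = _ := h1
  obtain ⟨χ, hχ⟩ := exists_joint_eigen f fun a c => LinearMap.ext fun w =>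
    Subtype.ext (hRcomm _ a.2 _ c.2.1 _ w.2)
  have hxR : Normalizes b R := fun g hg => (hinv j le_rfl).conj_radSub hg
  set B : End K W0 := (ρ b).restrict hbW with hB
  have hBk : ∀ (i : ℕ) (w : W0), (((B ^ i) w : W0) : V) = ρ (b ^ i) w := by
    intro i
    induction i with
    | zero => intro w; simp
    | succ i ih =>
      intro w
      rw [pow_succ', pow_succ', map_mul, Module.End.mul_apply, Module.End.mul_apply, ← ih]
      rfl
  obtain ⟨j', hj', -, hW'B, hW'fix⟩ := orbit f (conjAut hxR).toEquiv B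
    (fun g => LinearMap.ext fun w => Subtype.ext (by
      show ρ b (ρ g w) = ρ ((conjAut hxR g : R) : Γ) (ρ b w)
      rw [← Module.End.mul_apply, ← Module.End.mul_apply, ← map_mul, ← map_mul, conjAut_apply, inv_mul_cancel_right]))
    (n := n - j) (LinearMap.ext fun w => Subtype.ext (by
      rw [hBk, hbk, Nat.add_sub_cancel' hjn.le, hxP, map_one]; rfl))
    (fun w => Subtype.ext (by
      rw [Submodule.coe_sum, Submodule.coe_zero, ← hfix1 w w.2]
      exact Finset.sum_congr rfl fun i _ => by rw [hBk, map_pow])) χ hχ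
  set k := j + j' with hk
  set W' := (eigs f χ).map W0.subtype with hW'
  have hW'le : W' ≤ W0 := Submodule.map_subtype_le _ _
  have hW'0 : W' ≠ ⊥ := fun e =>
    hχ (Submodule.map_injective_of_injective W0.injective_subtype (e.trans (Submodule.map_bot _).symm))
  have hW'Q : ∀ g ∈ N1, ∀ w ∈ W', ρ g w ∈ W' := by
    rintro g hg _ ⟨w, hw, rfl⟩
    exact ⟨_, eigs_invariant (f := f) (g := (ρ g).restrict (h.invariant hg.1))
      (fun r : R => LinearMap.ext fun w => Subtype.ext (hRcomm _ r.2 _ hg.1 _ w.2).symm) w hw, rfl⟩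
  have hW'scal : ∀ g ∈ R, ∃ c : K, ∀ w ∈ W', ρ g w = c • w := fun g hg => ⟨χ ⟨g, hg⟩, by
    rintro _ ⟨w, hw, rfl⟩
    exact congrArg Subtype.val (mem_eigs.mp hw ⟨g, hg⟩)⟩
  have hW'b : ∀ w ∈ W', ρ (x ^ 2 ^ k) w ∈ W' := by
    rintro _ ⟨w, hw, rfl⟩
    exact ⟨_, hW'B w hw, by rw [hk, ← hbk]; exact hBk _ w⟩
  have hW'f : ∀ w ∈ W', ∑ i ∈ Finset.range (2 ^ (n - k)), (ρ (x ^ 2 ^ k) ^ i) w = 0 := by
    rintro _ ⟨w, hw, rfl⟩
    have h1 := congrArg Subtype.val (hW'fix w hw)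
    rw [Submodule.coe_sum, Submodule.coe_zero, show n - j - j' = n - k by omega] at h1
    rw [← h1]
    refine Finset.sum_congr rfl fun i _ => ?_
    rw [← pow_mul, hBk, ← map_pow, pow_mul, hbk]
    rfl
  have hkn : k < n := by omega
  haveI : Nontrivial W' := Submodule.nontrivial_iff_ne_bot.mpr hW'0
  let τ : N1 →* End K W' :=
    { toFun := fun g => (ρ (g : Γ)).restrict (hW'Q g g.2)
      map_one' := by ext w; simp [LinearMap.restrict_apply]
      map_mul' := fun a c => by ext w; simp [LinearMap.restrict_apply] }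
  have hτcom : ∀ g c : N1, ∀ w : W', ((τ ⁅g, c⁆ w : W') : V) = lam g c • (w : V) := fun g c w =>
    mem_pairSpace (hW'le w.2) g.2.1 c.2.1
  have hrad : ∀ g : N1, (∀ c, Commute (τ g) (τ c)) → (g : Γ) ∈ R := fun g hg =>
    anti_nondeg hp ht2 hq hQ g.2 fun c hc => by
      obtain ⟨w, hw⟩ := exists_ne (0 : W')
      refine smul_left_injective K (fun e => hw (Subtype.ext e) : (w : V) ≠ 0) ?_
      show lam g c • (w : V) = (1 : K) • (w : V)
      rw [one_smul, ← hτcom g ⟨c, hc⟩ w]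
      congr 1
      rw [commutatorElement_def, map_mul, map_mul, map_mul, (hg ⟨c, hc⟩).eq, mul_assoc (τ ⟨c, hc⟩), ← map_mul τ g,
        mul_inv_cancel, map_one, mul_one, ← map_mul, mul_inv_cancel, map_one, Module.End.one_apply]
  have hscalR : ∀ g : N1, (g : Γ) ∈ R → g ∈ scalarSub τ := fun g hg => by
    obtain ⟨c, hc⟩ := hW'scal _ hg
    exact ⟨c, LinearMap.ext fun w => Subtype.ext (hc w w.2)⟩
  have hscal_iff : ∀ g : N1, g ∈ scalarSub τ ↔ (g : Γ) ∈ R := fun g => by
    refine ⟨fun ⟨c, hc⟩ => hrad g fun c' => ?_, hscalR g⟩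
    rw [hc]
    exact (Commute.one_left _).smul_left c
  have hxk : Preserves Q lam (x ^ 2 ^ k) := hinv k (by omega)
  have hkt : Commute (x ^ 2 ^ k) t := (Commute.refl x).pow_pow _ _
  let β : MulAut N1 := conjAut (x := x ^ 2 ^ k) (A := N1) fun g hg => hxk.conj_antiSub hkt hg
  set B' : End K W' := (ρ (x ^ 2 ^ k)).restrict hW'b with hB'
  have hBk' : ∀ (i : ℕ) (w : W'), (((B' ^ i) w : W') : V) = ρ ((x ^ 2 ^ k) ^ i) w := by
    intro i
    induction i with
    | zero => intro w; simp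
    | succ i ih =>
      intro w
      rw [pow_succ', pow_succ' (x ^ 2 ^ k), map_mul, Module.End.mul_apply, Module.End.mul_apply, ← ih]
      rfl
  obtain ⟨m0, hm0⟩ := (hQ.to_le (show N1 ≤ Q from fun g hg => hg.1)).exists_card_eq
  have hidx : (scalarSub τ).index = R.relIndex N1 := by
    rw [Subgroup.relIndex]
    congr 1
    ext g
    exact hscal_iff g
  have hdvd : (scalarSub τ).index ∣ q ^ m0 := hm0 ▸ Subgroup.index_dvd_card _
  have hfree : ∀ (l : ℕ) (g : N1), g⁻¹ * (β ^ l) g ∈ scalarSub τ → 2 ^ (n - k) ∣ l ∨ g ∈ scalarSub τ := by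
    intro l g hg
    rw [hscal_iff] at hg ⊢
    by_contra hcon
    push_neg at hcon
    obtain ⟨hPl, hgR⟩ := hcon
    -- some power of the conjugation is `t`
    obtain ⟨m, hm⟩ : ∃ m, (x ^ 2 ^ k) ^ (l * m) = t := by
      have hl0 : l ≠ 0 := fun e => hPl (e ▸ dvd_zero _)
      obtain ⟨i, o, ho, rfl⟩ := Nat.exists_eq_two_pow_mul_odd hl0
      have hi : i < n - k := by
        by_contra hi
        exact hPl (Dvd.dvd.mul_right (pow_dvd_pow 2 (not_lt.mp hi)) o)
      obtain ⟨o', rfl⟩ := ho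
      refine ⟨2 ^ (n - k - 1 - i), ?_⟩
      rw [← pow_mul, show 2 ^ k * (2 ^ i * (2 * o' + 1) * 2 ^ (n - k - 1 - i)) =
          2 ^ (n - 1) * (2 * o' + 1) by
        rw [show n - 1 = k + (i + (n - k - 1 - i)) by omega, pow_add, pow_add]; ring, pow_mul, ← ht, pow_succ,
        pow_mul, sq, ht2, one_pow, one_mul]
    set z := (x ^ 2 ^ k) ^ l with hz
    have hzp : Preserves Q lam z := hxk.pow l
    have hzg : ∀ c ∈ Q, lam (z * g * z⁻¹) c = lam g c := fun c hc => by
      have h1 := hg.2 c hc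
      push_cast at h1
      rw [show (((β ^ l) g : N1) : Γ) = z * g * z⁻¹ from conjAut_pow _ l g, h.mul_left (inv_mem g.2.1) (hzp.1 _ g.2.1) hc] at h1
      calc lam (z * g * z⁻¹) c = lam (g : Γ)⁻¹ c * lam g c * lam (z * g * z⁻¹) c := by
            rw [h.inv_left g.2.1 hc, one_mul]
        _ = lam g c * (lam (g : Γ)⁻¹ c * lam (z * g * z⁻¹) c) := by ring
        _ = _ := by rw [h1, mul_one]
    have hiter : ∀ i : ℕ, ∀ c ∈ Q, lam (z ^ i * g * (z ^ i)⁻¹) c = lam g c := by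
      intro i
      induction i with
      | zero => intro c _; simp
      | succ i ih =>
        intro c hc
        have hc' : z⁻¹ * c * z ∈ Q := by simpa using hzp.inv.1 c hc
        rw [show z ^ (i + 1) * (g : Γ) * (z ^ (i + 1))⁻¹ = z * (z ^ i * g * (z ^ i)⁻¹) * z⁻¹ by
            rw [pow_succ']; group,
          hzp.lam_conj ((hzp.pow i).1 _ g.2.1) hc, ih _ hc', ← hzp.lam_conj g.2.1 hc, hzg c hc]
    refine hgR (anti_free hq hQ g.2 fun c hc => ?_)
    rw [← hm, pow_mul, ← hz]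
    exact hiter m c hc
  obtain ⟨d, hd, hdP⟩ := exceptional τ (by rw [hm0, Nat.cast_pow]; exact pow_ne_zero _ hqK) β B'
      (fun g => LinearMap.ext fun w => Subtype.ext (by
        show ρ (x ^ 2 ^ k) (ρ g w) = ρ (x ^ 2 ^ k * (g : Γ) * (x ^ 2 ^ k)⁻¹) (ρ (x ^ 2 ^ k) w)
        rw [← Module.End.mul_apply, ← Module.End.mul_apply, ← map_mul, ← map_mul,
          inv_mul_cancel_right]))
      (m := n - k) (P := 2 ^ (n - k)) rfl (Nat.le_self_pow (by omega) 2)
      (LinearMap.ext fun w => Subtype.ext (by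
        rw [hBk', ← pow_mul, ← pow_add, Nat.add_sub_cancel' hkn.le, hxP, map_one]; rfl))
      (LinearMap.ext fun w => Subtype.ext (by
        rw [LinearMap.sum_apply, Submodule.coe_sum, LinearMap.zero_apply, Submodule.coe_zero, ← hW'f w w.2]
        exact Finset.sum_congr rfl fun i _ => by rw [hBk', map_pow]))
      (fun g c => ⟨lam g c, LinearMap.ext fun w => Subtype.ext (hτcom g c w)⟩)
      (fun g hg => hscalR g (hrad g hg))
      (fun e => hne fun g hg => (hscal_iff ⟨g, hg⟩).mp (e ▸ Subgroup.mem_top _))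
      hfree
  obtain ⟨r, -, rfl⟩ := (Nat.dvd_prime_pow hqf.out).mp ((Dvd.intro _ rfl).trans (hd ▸ hdvd))
  have hq3 : 3 ≤ q := by
    obtain ⟨a, rfl⟩ := hq
    have := hqf.out.two_le
    omega
  have hr1 : 1 ≤ r := by
    by_contra h0
    refine hne (Subgroup.relIndex_eq_one.mp ?_)
    rw [← hidx, ← hd, show r = 0 by omega]
    simp
  have hr := eq_one_of_pow_add_one hq3 hq hr1 hdP
  subst hr
  rw [pow_one] at hdP hd
  exact ⟨k, hkn, hdP, by rw [← hidx, ← hd, sq], fun i hi => hinv i (by omega)⟩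

end Cfsg.Agent.GenA.TwoLength
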