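import Cfsg.Agent.GenA.TwoLength.Half
import Cfsg.Agent.Lib.PLocal.PLengthBound.Main

/-!
Gross's bound on the `2`-length in terms of the exponent of a Sylow `2`-subgroup.
-/

set_option autoImplicit false

namespace Cfsg.Agent.GenA.TwoLength

open Cfsg Subgroup
open Module (End)
open Cfsg.Agent.PLocal.TheoremB (geom_sum_eq_pow)
open Cfsg.Agent.PLocal.PLengthBound (exists_layer no_full_block exists_closed_rep quot_core eq_top_of_sylow_le)
open Cfsg.Agent.GenA.UpperPSeries (S le_succ step_coprime step_pPower succ_odd)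

universe u

/-- The double step. -/
theorem two_step {M : Type u} [Group M] [Finite M] [Group.IsSolvable M] (hO : pPrimeCore 2 M = ⊥)
    (P : Sylow 2 M) {f : ℕ} (hf : 2 ≤ f) (hexp : ∀ g ∈ (P : Subgroup M), g ^ 2 ^ f = 1) {x : M}
    (hx : x ∈ (P : Subgroup M)) :
    (QuotientGroup.mk' (pPrimeCore 2 (M ⧸ pCore 2 M)) (QuotientGroup.mk' (pCore 2 M) x)) ^ 2 ^ (f - 1) ∈
      pCore 2 ((M ⧸ pCore 2 M) ⧸ pPrimeCore 2 (M ⧸ pCore 2 M)) := by
  haveI : Fact (Nat.Prime 2) := ⟨Nat.prime_two⟩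
  have hs := QuotientGroup.mk'_surjective (pCore 2 M)
  set π₁ := QuotientGroup.mk' (pCore 2 M) with hπ₁
  rcases subsingleton_or_nontrivial (M ⧸ pCore 2 M) with hsub | hnt
  · rw [Subsingleton.elim (π₁ x) 1, map_one, one_pow]
    exact one_mem _
  obtain ⟨W, _, _, _, ρ, φ, hker, hsurj, hequiv⟩ :=
    exists_layer (PLocal.SolvableSeparable.isPSolvable_of_isSolvable 2 M) hO
  let ρ₁ : M ⧸ pCore 2 M →* End (ZMod 2) W := QuotientGroup.lift (pCore 2 M) ρ hker.ge
  have hρ₁ : Function.Injective ρ₁ := by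
    rw [injective_iff_map_eq_one]
    intro a ha
    obtain ⟨a, rfl⟩ := QuotientGroup.mk_surjective a
    exact (QuotientGroup.eq_one_iff a).mpr (hker ▸ MonoidHom.mem_ker.mpr ha)
  obtain ⟨V, _, _, _, _, τ, hτ, hblk⟩ := exists_closed_rep ρ₁ hρ₁
  haveI : CharP (AlgebraicClosure (ZMod 2)) 2 :=
    charP_of_injective_algebraMap (algebraMap (ZMod 2) (AlgebraicClosure (ZMod 2))).injective 2
  set P₁ := P.mapSurjective hs with hP₁
  rw [← map_pow]
  refine half_mem PLocal.Cores.pCore_quotient_pCore τ hτ P₁ hf ?_ ?_ (π₁ x) ?_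
  · intro g hg
    rw [hP₁, Sylow.coe_mapSurjective] at hg
    obtain ⟨g, hg, rfl⟩ := hg
    rw [← map_pow, hexp g hg, map_one]
  · intro g hg v
    rw [hP₁, Sylow.coe_mapSurjective] at hg
    obtain ⟨g, hg, rfl⟩ := hg
    rw [← LinearMap.sum_apply, geom_sum_eq_pow (K := AlgebraicClosure (ZMod 2)) (p := 2) f,
      hblk _ _ (no_full_block hsurj hequiv P hexp hg), LinearMap.zero_apply]
  · rw [hP₁, Sylow.coe_mapSurjective]
    exact mem_map_of_mem _ hx

/-- An exponent two Sylow subgroup lies in the core. -/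
theorem base_step {M : Type u} [Group M] [Finite M] [Group.IsSolvable M] (hO : pPrimeCore 2 M = ⊥)
    (P : Sylow 2 M) (hexp : ∀ g ∈ (P : Subgroup M), g * g = 1) {x : M} (hx : x ∈ (P : Subgroup M)) :
    x ∈ pCore 2 M := by
  haveI : Fact (Nat.Prime 2) := ⟨Nat.prime_two⟩
  refine PLocal.PSolvable.centralizer_pCore_le hO (PLocal.SolvableSeparable.isPSolvable_of_isSolvable 2 _) ?_
  refine mem_centralizer_iff.mpr fun a ha => ?_
  have haP : a ∈ (P : Subgroup M) := PLocal.Cores.pCore_le_sylow P ha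
  have hinv : ∀ g ∈ (P : Subgroup M), g⁻¹ = g := fun g hg => (eq_inv_of_mul_eq_one_left (hexp g hg)).symm
  calc a * x = (a * x)⁻¹ := (hinv _ (mul_mem haP hx)).symm
    _ = x * a := by rw [mul_inv_rev, hinv a haP, hinv x hx]

variable {G : Type u} [Group G] [Finite G] [Group.IsSolvable G]

theorem step (P : Sylow 2 G) {f : ℕ} (hf : 1 ≤ f) (i : ℕ)
    (hD : ∀ x ∈ (P : Subgroup G), x ^ 2 ^ f ∈ S 2 G (2 * i + 1)) :
    (f = 1 → ∀ x ∈ (P : Subgroup G), x ∈ S 2 G (2 * (i + 1) + 1)) ∧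
    (2 ≤ f → ∀ x ∈ (P : Subgroup G), x ^ 2 ^ (f - 1) ∈ S 2 G (2 * (i + 2) + 1)) := by
  haveI : Fact (Nat.Prime 2) := ⟨Nat.prime_two⟩
  set U := S 2 G (2 * i + 1) with hU
  set π := QuotientGroup.mk' U with hπ
  have hs := QuotientGroup.mk'_surjective U
  have hO : pPrimeCore 2 (G ⧸ U) = ⊥ := quot_core i
  set PM := P.mapSurjective hs with hPM
  have hmem : ∀ x ∈ (P : Subgroup G), π x ∈ (PM : Subgroup (G ⧸ U)) := fun x hx => by
    rw [hPM, Sylow.coe_mapSurjective]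
    exact mem_map_of_mem _ hx
  have hexp : ∀ g ∈ (PM : Subgroup (G ⧸ U)), g ^ 2 ^ f = 1 := by
    intro g hg
    rw [hPM, Sylow.coe_mapSurjective] at hg
    obtain ⟨g, hg, rfl⟩ := hg
    rw [← map_pow]
    exact (QuotientGroup.eq_one_iff _).mpr (hD g hg)
  set A := (pCore 2 (G ⧸ U)).comap π with hA
  have hAle : A ≤ S 2 G (2 * (i + 1) + 1) := by
    rw [show 2 * (i + 1) + 1 = 2 * i + 1 + 1 + 1 by ring]
    exact (succ_odd (p := 2) (G := G) (n := 2 * i + 1) (by simp [parity_simps])).ge.trans (le_succ _)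
  refine ⟨fun h1 x hx => hAle ?_, fun h2 x hx => ?_⟩
  · subst h1
    exact base_step hO PM (fun g hg => by simpa [sq] using hexp g hg) (hmem x hx)
  · set φ₁ := (QuotientGroup.mk' (pCore 2 (G ⧸ U))).comp π with hφ₁
    haveI : (pPrimeCore 2 ((G ⧸ U) ⧸ pCore 2 (G ⧸ U))).Normal := Cores.pPrimeCore_normal 2
    set φ₂ := (QuotientGroup.mk' (pPrimeCore 2 ((G ⧸ U) ⧸ pCore 2 (G ⧸ U)))).comp φ₁ with hφ₂
    set B := (pPrimeCore 2 ((G ⧸ U) ⧸ pCore 2 (G ⧸ U))).comap φ₁ with hB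
    set T := (pCore 2 (((G ⧸ U) ⧸ pCore 2 (G ⧸ U)) ⧸ pPrimeCore 2 ((G ⧸ U) ⧸ pCore 2 (G ⧸ U)))).comap φ₂ with hT
    have hs₁ : Function.Surjective φ₁ := (QuotientGroup.mk'_surjective _).comp hs
    have hs₂ : Function.Surjective φ₂ := (QuotientGroup.mk'_surjective _).comp hs₁
    have hAker : A = (⊥ : Subgroup _).comap φ₁ := by
      rw [hφ₁, ← comap_comap, MonoidHom.comap_bot, QuotientGroup.ker_mk']
    have hBker : B = (⊥ : Subgroup _).comap φ₂ := by
      rw [hφ₂, ← comap_comap, MonoidHom.comap_bot, QuotientGroup.ker_mk']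
    haveI : A.Normal := inferInstance
    haveI : B.Normal := inferInstance
    haveI : T.Normal := inferInstance
    have hAB : A ≤ B := hAker ▸ comap_mono bot_le
    have hBT : B ≤ T := hBker ▸ comap_mono bot_le
    have hco : (A.relIndex B).Coprime 2 := by
      rw [hAker, relIndex_comap, hB, map_comap_eq_self_of_surjective hs₁, relIndex_bot_left]
      exact PLocal.Cores.coprime_card_pPrimeCore
    obtain ⟨k, hk⟩ : ∃ k, B.relIndex T = 2 ^ k := by
      rw [hBker, relIndex_comap, hT, map_comap_eq_self_of_surjective hs₂, relIndex_bot_left]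
      exact IsPGroup.iff_card.mp PLocal.Cores.isPGroup_pCore
    refine step_pPower hBT hk (step_coprime hAB hco hAle) ?_
    rw [hT, mem_comap, map_pow]
    exact two_step hO PM h2 hexp (hmem x hx)

/-- Gross's bound. -/
theorem pLength_two_le (e : ℕ) (he : 1 ≤ e) (hexp : ∀ (P : Sylow 2 G), ∀ x ∈ (P : Subgroup G), x ^ 2 ^ e = 1) :
    PLengthLE 2 (2 * e - 1) G := by
  haveI : Fact (Nat.Prime 2) := ⟨Nat.prime_two⟩
  obtain ⟨P⟩ : Nonempty (Sylow 2 G) := inferInstance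
  have main : ∀ f i, (∀ x ∈ (P : Subgroup G), x ^ 2 ^ (f + 1) ∈ S 2 G (2 * i + 1)) →
      S 2 G (2 * (i + 2 * f + 1) + 1) = ⊤ := by
    intro f
    induction f with
    | zero =>
      intro i hD
      exact eq_top_of_sylow_le P (i + 1) fun x hx => (step P le_rfl i hD).1 rfl x hx
    | succ f ih =>
      intro i hD
      rw [show i + 2 * (f + 1) + 1 = i + 2 + 2 * f + 1 by ring]
      exact ih (i + 2) (by simpa using (step P (show 1 ≤ f + 1 + 1 by omega) i hD).2 (by omega))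
  obtain ⟨f, rfl⟩ := Nat.exists_eq_add_of_le' he
  have h := main f 0 fun x hx => by rw [hexp P x hx]; exact one_mem _
  rw [show 2 * (f + 1) - 1 = 0 + 2 * f + 1 by omega]
  exact h

end Cfsg.Agent.GenA.TwoLength
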